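import Cfsg.Agent.Lib.OddOrder.CN
import Cfsg.Agent.Lib.OddOrder.CNTheorem
import Mathlib.GroupTheory.GroupAction.ConjAct

/-!
# The nilpotent normal subgroups of a nonsolvable CN-group

They are 2-groups; modulo the largest one the group is again a nonsolvable CN-group, now without a
nilpotent normal subgroup, and its elements of odd order fix nothing in it.
-/

set_option autoImplicit false
set_option linter.style.haveILetI false
set_option linter.unusedSectionVars false

namespace CfsgLib.Recognition.CNStructure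

open Subgroup CfsgLib.OddOrder

universe u

theorem isCN_of_bijective {G H : Type*} [Group G] [Group H] (f : G →* H) (hf : Function.Bijective f)
    (hCN : Cfsg.IsCNGroup G) : Cfsg.IsCNGroup H := by
  intro y hy
  obtain ⟨x, rfl⟩ := hf.2 y
  haveI := hCN x fun h => hy (by rw [h, map_one])
  refine Group.nilpotent_of_surjective ((f.comp (Subgroup.centralizer ({x} : Set G)).subtype).codRestrict
    (Subgroup.centralizer ({f x} : Set H)) fun z => ?_) ?_
  · rw [Subgroup.mem_centralizer_singleton_iff, MonoidHom.comp_apply, ← map_mul, ← map_mul]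
    exact congrArg f (Subgroup.mem_centralizer_singleton_iff.1 z.2)
  · rintro ⟨w, hw⟩
    obtain ⟨z, rfl⟩ := hf.2 w
    rw [Subgroup.mem_centralizer_singleton_iff, ← map_mul, ← map_mul] at hw
    exact ⟨⟨z, Subgroup.mem_centralizer_singleton_iff.2 (hf.1 hw)⟩, rfl⟩

/-- A quotient of a CN-group by a `q`-group is CN. -/
theorem isCN_of_pGroup_ker {q : ℕ} [Fact q.Prime] (n : ℕ) :
    ∀ {G H : Type u} [Group G] [Finite G] [Group H] (f : G →* H), Nat.card G = n →
      Function.Surjective f → IsPGroup q f.ker → Cfsg.IsCNGroup G → Cfsg.IsCNGroup H := by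
  induction n using Nat.strong_induction_on with
  | _ n ih =>
    intro G H _ _ _ f hn hf hker hCN
    rcases eq_or_ne f.ker ⊥ with hbot | hbot
    · exact isCN_of_bijective f ⟨(MonoidHom.ker_eq_bot_iff f).1 hbot, hf⟩ hCN
    haveI : Nontrivial f.ker := (Subgroup.nontrivial_iff_ne_bot _).2 hbot
    set V := (Subgroup.center f.ker).map f.ker.subtype with hV
    haveI : V.Normal := inferInstance
    haveI : IsMulCommutative V := IsMulCommutative.of_comm fun a b => by
      obtain ⟨z, hz, hza⟩ := a.2
      obtain ⟨w, -, hwb⟩ := b.2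
      refine Subtype.ext ?_
      show (a : G) * b = b * a
      rw [← hza, ← hwb]
      exact congrArg Subtype.val (Subgroup.mem_center_iff.1 hz w).symm
    have hle : V ≤ f.ker := Subgroup.map_subtype_le _
    have hV1 : V ≠ ⊥ := fun h => by
      haveI := hker.center_nontrivial
      exact (Subgroup.nontrivial_iff_ne_bot _).1 this
        ((Subgroup.map_eq_bot_iff_of_injective _ f.ker.subtype_injective).1 h)
    have hVp : IsPGroup q V := hker.to_le hle
    have hlt : Nat.card (G ⧸ V) < n := by
      have h1 : 1 < Nat.card V := Subgroup.one_lt_card_iff_ne_bot V |>.2 hV1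
      rw [← hn, V.card_eq_card_quotient_mul_card_subgroup]
      exact lt_mul_of_one_lt_right Nat.card_pos h1
    refine ih _ hlt (QuotientGroup.lift V f hle) rfl (fun y => ?_) ?_
      (CN.quotient_aux hCN V hVp hV1)
    · obtain ⟨x, rfl⟩ := hf y
      exact ⟨(x : G ⧸ V), rfl⟩
    · rintro ⟨x, hx⟩
      induction x using QuotientGroup.induction_on with
      | _ g =>
        obtain ⟨k, hk⟩ := hker ⟨g, hx⟩
        exact ⟨k, Subtype.ext (by
          show (g : G ⧸ V) ^ q ^ k = 1
          rw [← QuotientGroup.mk_pow, show g ^ q ^ k = 1 from congrArg Subtype.val hk]; rfl)⟩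

variable {G : Type u} [Group G] [Finite G]

/-- Elements of a nilpotent subgroup of coprime orders commute. -/
theorem commute_of_two {K : Subgroup G} [Group.IsNilpotent K] {a b : G} (ha : a ∈ K) (hb : b ∈ K)
    {k : ℕ} (hk : a ^ 2 ^ k = 1) (hbo : Odd (orderOf b)) : Commute a b :=
  Basic.commute_of_mem_nilpotent ha hb (((Nat.coprime_two_right.2 hbo).pow_right k).symm.coprime_dvd_left
    (orderOf_dvd_of_pow_eq_one hk))

theorem isSolvable_of_quotient {N : Subgroup G} [N.Normal] (h1 : Group.IsSolvable N)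
    (h2 : Group.IsSolvable (G ⧸ N)) : Group.IsSolvable G :=
  Group.isSolvable_of_ker_le_range N.subtype (QuotientGroup.mk' N)
    (by rw [QuotientGroup.ker_mk', Subgroup.range_subtype])

/-- A nilpotent normal subgroup of a nonsolvable CN-group is a 2-group. -/
theorem isPGroup_of_nilpotent_normal (hns : ¬ Group.IsSolvable G) (hCN : Cfsg.IsCNGroup G)
    {K : Subgroup G} [K.Normal] (hK : Group.IsNilpotent K) : IsPGroup 2 K := by
  classical
  haveI : Fact (Nat.Prime 2) := ⟨Nat.prime_two⟩
  by_contra h2
  obtain ⟨p, hp, hpK, hp2⟩ : ∃ p : ℕ, p.Prime ∧ p ∣ Nat.card K ∧ p ≠ 2 := by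
    by_contra h
    simp only [not_exists, not_and, not_not] at h
    exact h2 (IsPGroup.of_card (n := (Nat.card K).primeFactorsList.length)
      (Nat.eq_prime_pow_of_unique_prime_dvd Nat.card_pos.ne' fun {r} hr hd => h r hr hd))
  haveI := Fact.mk hp
  haveI := hK
  obtain ⟨P⟩ : Nonempty (Sylow p K) := inferInstance
  have hall : ∀ (l : ℕ) (_hl : Fact l.Prime) (Q : Sylow l K), (↑Q : Subgroup K).Normal :=
    Iff.mp (Group.isNilpotent_of_finite_tfae.out 0 3) hK
  haveI := hall p inferInstance P
  haveI : (P : Subgroup K).Characteristic := P.characteristic_of_normal inferInstance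
  set P' := (P : Subgroup K).map K.subtype with hP'
  haveI : P'.Normal := inferInstance
  have hP'1 : P' ≠ ⊥ := fun h => P.ne_bot_of_dvd_card hpK
    ((Subgroup.map_eq_bot_iff_of_injective _ K.subtype_injective).1 h)
  have hP'p : IsPGroup p P' := P.isPGroup'.map K.subtype
  set V := (Subgroup.center P').map P'.subtype with hV
  haveI : V.Normal := inferInstance
  haveI : Nontrivial P' := (Subgroup.nontrivial_iff_ne_bot _).2 hP'1
  have hV1 : V ≠ ⊥ := fun h => by
    haveI := hP'p.center_nontrivial
    exact (Subgroup.nontrivial_iff_ne_bot _).1 this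
      ((Subgroup.map_eq_bot_iff_of_injective _ P'.subtype_injective).1 h)
  have hVc : ∀ a ∈ V, ∀ b ∈ V, a * b = b * a := by
    rintro _ ⟨a, ha, rfl⟩ _ ⟨b, -, rfl⟩
    exact congrArg Subtype.val (Subgroup.mem_center_iff.1 ha b).symm
  have hVp : IsPGroup p V := hP'p.to_le (Subgroup.map_subtype_le _)
  have hVodd : ∀ v ∈ V, Odd (orderOf v) := fun v hv => by
    obtain ⟨k, hk⟩ := IsPGroup.iff_orderOf.1 hVp ⟨v, hv⟩
    rw [Subgroup.orderOf_mk] at hk
    rw [hk]
    exact (hp.odd_of_ne_two hp2).pow
  obtain ⟨v₀, hv₀, hv₀1⟩ := (Subgroup.bot_or_exists_ne_one V).resolve_left hV1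
  set C := Subgroup.centralizer (V : Set G) with hC
  haveI : C.Normal := inferInstance
  haveI hCnil : Group.IsNilpotent C := by
    haveI := hCN v₀ hv₀1
    exact CN.isNilpotent_of_le (K := Subgroup.centralizer ({v₀} : Set G))
      (Subgroup.centralizer_le (Set.singleton_subset_iff.2 hv₀))
  by_cases h2C : 2 ∣ Nat.card C
  · obtain ⟨C₂⟩ : Nonempty (Sylow 2 C) := inferInstance
    have hallC : ∀ (l : ℕ) (_hl : Fact l.Prime) (Q : Sylow l C), (↑Q : Subgroup C).Normal :=
      Iff.mp (Group.isNilpotent_of_finite_tfae.out 0 3) hCnil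
    haveI := hallC 2 inferInstance C₂
    haveI : (C₂ : Subgroup C).Characteristic := C₂.characteristic_of_normal inferInstance
    set C₂' := (C₂ : Subgroup C).map C.subtype with hC₂'
    haveI : C₂'.Normal := inferInstance
    obtain ⟨T⟩ : Nonempty (Sylow 2 G) := inferInstance
    have hle : C₂' ≤ (T : Subgroup G) := (C₂.isPGroup'.map C.subtype).le_sylow_of_normal T
    haveI := T.isPGroup'.isNilpotent
    have hne : C₂'.subgroupOf (T : Subgroup G) ≠ ⊥ := fun h => by
      rw [Subgroup.subgroupOf_eq_bot, disjoint_iff, inf_eq_left.2 hle] at h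
      exact C₂.ne_bot_of_dvd_card h2C ((Subgroup.map_eq_bot_iff_of_injective _ C.subtype_injective).1 h)
    obtain ⟨z, hz, hz1⟩ := (Subgroup.bot_or_exists_ne_one _).resolve_left
      (CfsgLib.Solvable.FrattiniFitting.inf_center_ne_bot (C₂'.subgroupOf (T : Subgroup G)) hne)
    have hzG : (z : G) ≠ 1 := fun h => hz1 (Subtype.ext h)
    have hzC : (z : G) ∈ C := Subgroup.map_subtype_le _ hz.1
    have hTC : (T : Subgroup G) ≤ C := fun d hd => by
      haveI := hCN (z : G) hzG
      rw [hC, Subgroup.mem_centralizer_iff]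
      intro v hv
      obtain ⟨k, hk⟩ := T.isPGroup' ⟨d, hd⟩
      refine (commute_of_two (K := Subgroup.centralizer ({(z : G)} : Set G)) ?_ ?_
        (k := k) (congrArg Subtype.val hk) (hVodd v hv)).symm.eq
      · rw [Subgroup.mem_centralizer_singleton_iff]
        exact congrArg Subtype.val (Subgroup.mem_center_iff.1 hz.2 ⟨d, hd⟩)
      · rw [Subgroup.mem_centralizer_singleton_iff]
        exact Subgroup.mem_centralizer_iff.1 hzC v hv
    have hTC₂ : (T : Subgroup G) ≤ C₂' := fun d hd => by
      refine ⟨⟨d, hTC hd⟩, ?_, rfl⟩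
      obtain ⟨k, hk⟩ := T.isPGroup' ⟨d, hd⟩
      have hpd : IsPGroup 2 (Subgroup.zpowers (⟨d, hTC hd⟩ : C)) := by
        obtain ⟨j, -, hj⟩ := (Nat.dvd_prime_pow Nat.prime_two).1
          (orderOf_dvd_of_pow_eq_one (congrArg Subtype.val hk : d ^ 2 ^ k = 1))
        exact IsPGroup.of_card (n := j) (by rw [Nat.card_zpowers, Subgroup.orderOf_mk, hj])
      obtain ⟨R, hR⟩ := hpd.exists_le_sylow
      haveI : Subsingleton (Sylow 2 C) := by
        haveI := Sylow.unique_of_normal C₂ inferInstance
        infer_instance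
      rw [Subsingleton.elim R C₂] at hR
      exact hR (Subgroup.mem_zpowers _)
    have hTeq : (T : Subgroup G) = C₂' := le_antisymm hTC₂ hle
    haveI : (T : Subgroup G).Normal := by rw [hTeq]; infer_instance
    refine hns (isSolvable_of_quotient (N := (T : Subgroup G)) inferInstance ?_)
    refine CNTheorem.isSolvable (Nat.not_even_iff_odd.1 fun he => ?_)
      (isCN_of_pGroup_ker _ (QuotientGroup.mk' (T : Subgroup G)) rfl
        (QuotientGroup.mk'_surjective _) (by rw [QuotientGroup.ker_mk']; exact T.isPGroup') hCN)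
    exact Sylow.not_dvd_index' T Subgroup.index_ne_zero_of_finite
      (by rw [Subgroup.index_eq_card]; exact even_iff_two_dvd.1 he)
  -- every involution inverts `V`
  have h2G : 2 ∣ Nat.card G := by
    by_contra h
    exact hns (CNTheorem.isSolvable (Nat.not_even_iff_odd.1 fun he => h (even_iff_two_dvd.1 he)) hCN)
  obtain ⟨t, ht⟩ := exists_prime_orderOf_dvd_card' (G := G) 2 h2G
  have htt : t * t = 1 := by rw [← pow_two]; exact orderOf_dvd_iff_pow_eq_one.1 (dvd_of_eq ht)
  have hinv : ∀ s : G, orderOf s = 2 → ∀ v ∈ V, s * v * s = v⁻¹ := by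
    intro s hs v hv
    have hss : s * s = 1 := by rw [← pow_two]; exact orderOf_dvd_iff_pow_eq_one.1 (dvd_of_eq hs)
    have hsi : s⁻¹ = s := inv_eq_of_mul_eq_one_right hss
    have hmem : s * v * s ∈ V := by
      have := (inferInstance : V.Normal).conj_mem v hv s
      rwa [hsi] at this
    have hfix : ∀ w ∈ V, s * w = w * s → w = 1 := by
      intro w hw hsw
      by_contra hw1
      haveI := hCN w hw1
      apply h2C
      have hsC : s ∈ C := by
        rw [hC, Subgroup.mem_centralizer_iff]
        intro x hx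
        exact (commute_of_two (K := Subgroup.centralizer ({w} : Set G))
          (Subgroup.mem_centralizer_singleton_iff.2 hsw)
          (Subgroup.mem_centralizer_singleton_iff.2 (hVc x hx w hw)) (k := 1)
          (by rw [pow_one, pow_two, hss]) (hVodd x hx)).symm.eq
      rw [← hs]
      exact Subgroup.orderOf_dvd_natCard C hsC
    refine eq_inv_of_mul_eq_one_left (hfix _ (mul_mem hmem hv) ?_)
    calc s * (s * v * s * v) = (s * s) * v * s * v := by group
      _ = v * s * v := by rw [hss, one_mul]
      _ = v * (s * v * s) * s := by rw [mul_assoc v (s * v * s), mul_assoc (s * v), hss, mul_one, mul_assoc]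
      _ = s * v * s * v * s := by rw [hVc v hv _ hmem]
  have hdecomp : ∀ g : G, ∃ c ∈ C, g⁻¹ * c ∈ Subgroup.centralizer ({t} : Set G) := by
    intro g
    set s := g * t * g⁻¹ with hs
    have hso : orderOf s = 2 := ((MulAut.conj g).orderOf_eq t).trans ht
    have hst : s * t ∈ C := by
      rw [hC, Subgroup.mem_centralizer_iff]
      intro v hv
      have h1 : t * v * t = v⁻¹ := hinv t ht v hv
      have h2 : s * v⁻¹ * s = v := by rw [hinv s hso _ (inv_mem hv), inv_inv]
      have hss : s * s = 1 := by rw [← pow_two]; exact orderOf_dvd_iff_pow_eq_one.1 (dvd_of_eq hso)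
      calc v * (s * t) = s * v⁻¹ * s * (s * t) := by rw [h2]
        _ = s * v⁻¹ * (s * s) * t := by group
        _ = s * (t * v * t) * t := by rw [hss, mul_one, h1]
        _ = s * t * v * (t * t) := by group
        _ = s * t * v := by rw [htt, mul_one]
    have hss : s * s = 1 := by rw [← pow_two]; exact orderOf_dvd_iff_pow_eq_one.1 (dvd_of_eq hso)
    have hodd : Odd (orderOf (t * s)) := by
      have hts : t * s ∈ C := by
        have := inv_mem hst
        rwa [_root_.mul_inv_rev, inv_eq_of_mul_eq_one_right htt, inv_eq_of_mul_eq_one_right hss] at this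
      refine Odd.of_dvd_nat (Nat.not_even_iff_odd.1 fun h => h2C (even_iff_two_dvd.1 h))
        (Subgroup.orderOf_dvd_natCard C hts)
    obtain ⟨k, hk⟩ := hodd
    -- the conjugating power of the product
    refine ⟨(s * t) ^ (k + 1), pow_mem hst _, ?_⟩
    have hpow : (s * t) ^ (2 * k + 1) = 1 := by
      have : orderOf (s * t) = orderOf (t * s) := by
        rw [← orderOf_inv (s * t), _root_.mul_inv_rev, inv_eq_of_mul_eq_one_right htt,
          inv_eq_of_mul_eq_one_right hss]
      rw [← hk, ← this, pow_orderOf_eq_one]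
    rw [Subgroup.mem_centralizer_singleton_iff]
    have hflip : ∀ j : ℕ, t * (s * t) ^ j = ((s * t) ^ j)⁻¹ * t := by
      intro j
      induction j with
      | zero => simp
      | succ j ih =>
        calc t * (s * t) ^ (j + 1) = t * (s * t) ^ j * (s * t) := by rw [pow_succ]; group
          _ = ((s * t) ^ j)⁻¹ * (t * s * t) := by rw [ih]; group
          _ = ((s * t) ^ j)⁻¹ * ((s * t)⁻¹ * t) := by
            rw [show (s * t)⁻¹ = t * s by
              rw [_root_.mul_inv_rev, inv_eq_of_mul_eq_one_right htt, inv_eq_of_mul_eq_one_right hss]]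
          _ = ((s * t) ^ (j + 1))⁻¹ * t := by
            generalize s * t = w
            rw [pow_succ', _root_.mul_inv_rev, mul_assoc]
    set c := (s * t) ^ (k + 1) with hc
    have hcc : c * c = s * t := by
      rw [hc, ← pow_add, show k + 1 + (k + 1) = (2 * k + 1) + 1 by ring, pow_succ, hpow, one_mul]
    have key : c * t = s * c := by
      have h1 : s = (s * t) * t := by rw [mul_assoc, htt, mul_one]
      rw [h1, ← hcc, mul_assoc (c * c), hflip, ← hc]
      group
    calc g⁻¹ * c * t = g⁻¹ * (s * c) := by rw [mul_assoc, key]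
      _ = t * (g⁻¹ * c) := by rw [hs]; group
  apply hns
  refine isSolvable_of_quotient (N := C) inferInstance ?_
  haveI : Group.IsNilpotent (Subgroup.centralizer ({t} : Set G)) :=
    hCN t fun h => by rw [h, orderOf_one] at ht; omega
  haveI : Group.IsNilpotent (G ⧸ C) := Group.nilpotent_of_surjective
    ((QuotientGroup.mk' C).comp (Subgroup.centralizer ({t} : Set G)).subtype) fun y => by
      induction y using QuotientGroup.induction_on with
      | _ g =>
        obtain ⟨c, hc, hcg⟩ := hdecomp g
        refine ⟨⟨_, inv_mem hcg⟩, ?_⟩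
        show QuotientGroup.mk' C (g⁻¹ * c)⁻¹ = _
        rw [map_inv, map_mul, map_inv, show QuotientGroup.mk' C c = 1 from
          (QuotientGroup.eq_one_iff _).2 hc, mul_one, inv_inv]
        rfl
  infer_instance

/-- The largest nilpotent normal subgroup, and what the rest of the group does to it. -/
theorem exists_kernel (hns : ¬ Group.IsSolvable G) (hCN : Cfsg.IsCNGroup G) :
    ∃ (N : Subgroup G) (_ : N.Normal), IsPGroup 2 N ∧
      (∀ K : Subgroup (G ⧸ N), K.Normal → Group.IsNilpotent K → K = ⊥) ∧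
      ¬ Group.IsSolvable (G ⧸ N) ∧ Cfsg.IsCNGroup (G ⧸ N) ∧
      (N ≠ ⊥ → ∀ d : G, Odd (orderOf d) → d ≠ 1 → ∀ x ∈ N, d * x = x * d → x = 1) := by
  classical
  haveI : Fact (Nat.Prime 2) := ⟨Nat.prime_two⟩
  obtain ⟨N, hN⟩ := exists_maximal_of_wellFoundedGT
    (fun N : Subgroup G => N.Normal ∧ Group.IsNilpotent N) ⟨⊥, inferInstance, inferInstance⟩
  obtain ⟨hNn, hNnil⟩ := hN.1
  haveI := hNn
  have h2 : IsPGroup 2 N := isPGroup_of_nilpotent_normal hns hCN hNnil
  have hnsQ : ¬ Group.IsSolvable (G ⧸ N) := fun h => hns (isSolvable_of_quotient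
    (by haveI := hNnil; infer_instance) h)
  have hCNQ : Cfsg.IsCNGroup (G ⧸ N) :=
    isCN_of_pGroup_ker _ (QuotientGroup.mk' N) rfl (QuotientGroup.mk'_surjective N)
      (by rw [QuotientGroup.ker_mk']; exact h2) hCN
  refine ⟨N, hNn, h2, fun K hKn hKnil => ?_, hnsQ, hCNQ, fun hN1 d hd hd1 x hx hdx => ?_⟩
  · haveI := hKn
    have hK2 := isPGroup_of_nilpotent_normal hnsQ hCNQ hKnil
    set K' := K.comap (QuotientGroup.mk' N) with hK'
    have hK'2 : IsPGroup 2 K' := hK2.comap_of_ker_isPGroup _ (by rw [QuotientGroup.ker_mk']; exact h2)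
    have hle : N ≤ K' := fun y hy => by
      rw [hK', Subgroup.mem_comap, show QuotientGroup.mk' N y = 1 from (QuotientGroup.eq_one_iff y).2 hy]
      exact one_mem _
    have heq := hN.2 ⟨inferInstance, hK'2.isNilpotent⟩ hle
    refine eq_bot_iff.2 fun y hy => ?_
    induction y using QuotientGroup.induction_on with
    | _ g => exact Subgroup.mem_bot.2 ((QuotientGroup.eq_one_iff g).2 (heq hy))
  by_contra hx1
  haveI : Nontrivial N := (Subgroup.nontrivial_iff_ne_bot N).2 hN1
  haveI := h2.center_nontrivial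
  obtain ⟨z, hz1⟩ := exists_ne (1 : Subgroup.center N)
  have hzG : ((z : N) : G) ≠ 1 := fun h => hz1 (Subtype.ext (Subtype.ext h))
  have hzn : ∀ n ∈ N, n * ((z : N) : G) = (z : N) * n := fun n hn =>
    congrArg Subtype.val (Subgroup.mem_center_iff.1 z.2 ⟨n, hn⟩)
  have hdz : d * ((z : N) : G) = (z : N) * d := by
    haveI := hCN x hx1
    obtain ⟨k, hk⟩ := h2 (z : N)
    exact (commute_of_two (K := Subgroup.centralizer ({x} : Set G))
      (Subgroup.mem_centralizer_singleton_iff.2 (hzn x hx).symm)
      (Subgroup.mem_centralizer_singleton_iff.2 hdx) (k := k) (congrArg Subtype.val hk) hd).symm.eq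
  have hdN : d ∈ Subgroup.centralizer (N : Set G) := by
    rw [Subgroup.mem_centralizer_iff]
    intro n hn
    haveI := hCN _ hzG
    obtain ⟨k, hk⟩ := h2 ⟨n, hn⟩
    exact (commute_of_two (K := Subgroup.centralizer ({((z : N) : G)} : Set G))
      (Subgroup.mem_centralizer_singleton_iff.2 (hzn n hn))
      (Subgroup.mem_centralizer_singleton_iff.2 hdz) (k := k) (congrArg Subtype.val hk) hd).eq
  have hC2 : IsPGroup 2 (Subgroup.centralizer (N : Set G)) := by
    obtain ⟨n, hn, hn1⟩ := (Subgroup.bot_or_exists_ne_one N).resolve_left hN1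
    haveI := hCN n hn1
    exact isPGroup_of_nilpotent_normal hns hCN (CN.isNilpotent_of_le
      (K := Subgroup.centralizer ({n} : Set G)) (Subgroup.centralizer_le (Set.singleton_subset_iff.2 hn)))
  obtain ⟨k, hk⟩ := hC2 ⟨d, hdN⟩
  exact hd1 (orderOf_eq_one_iff.1 (Nat.eq_one_of_dvd_coprimes ((Nat.coprime_two_right.2 hd).pow_right k)
    dvd_rfl (orderOf_dvd_of_pow_eq_one (congrArg Subtype.val hk : d ^ 2 ^ k = 1))))

end CfsgLib.Recognition.CNStructure
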