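import Cfsg.Agent.Lib.Recognition.CNStructure.Semisimple
import Cfsg.Agent.Lib.Recognition.CNStructure.Reduction
import Cfsg.Agent.Lib.Recognition.CNSuzuki.Main
import Cfsg.Agent.Lib.LocalEvenB.HigmanSL2
import Cfsg.Agent.Lib.KnownB.SuzukiFacts
import Cfsg.Agent.Lib.KGroups.AbelianTwo.SLTwo

/-!
# The structure of nonsolvable CN-groups

Over a nontrivial largest nilpotent normal subgroup `N`, the quotient is `PSL(2, 2ⁿ)` or a Suzuki
group, as `PSL(2, 9)`, `PSL(3, 4)` have elementary abelian subgroups of order nine and `PSL(2, p)`,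
`p ≥ 7`, has no module of characteristic two with fixed-point-free elements of odd order; in both
cases `N` is elementary abelian.
-/

set_option autoImplicit false
set_option linter.style.haveILetI false
set_option linter.unusedSectionVars false

namespace CfsgLib.Recognition.CNStructure

open Subgroup
open scoped IsMulCommutative MatrixGroups

universe u

/-- An elementary abelian group of order nine has no fixed-point-free module in characteristic two. -/
theorem no_module_nine {Q : Type*} [Group Q] {V : Type*} [AddCommGroup V] (h2 : ∀ v : V, v + v = 0)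
    (ρ : Q →* AddMonoid.End V)
    (hfpf : ∀ g : Q, Odd (orderOf g) → g ≠ 1 → ∀ v, ρ g v = v → v = 0) {a b : Q} (hab : a * b = b * a)
    (ha : a ^ 3 = 1) (hb : b ^ 3 = 1) (ha1 : a ≠ 1) (hb1 : b ≠ 1) (hc1 : a * b ≠ 1)
    (hd1 : a * a * b ≠ 1) (v : V) : v = 0 := by
  have hmul : ∀ g h v, ρ (g * h) v = ρ g (ρ h v) := fun g h v => by rw [map_mul]; rfl
  have hone : ∀ v, ρ 1 v = v := fun v => by rw [map_one]; rfl
  have key : ∀ g : Q, g ^ 3 = 1 → g ≠ 1 → ∀ v, v + ρ g v + ρ (g * g) v = 0 := by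
    intro g hg hg1 v
    refine hfpf g (Odd.of_dvd_nat (by decide) (orderOf_dvd_of_pow_eq_one hg)) hg1 _ ?_
    rw [map_add, map_add, ← hmul, ← hmul, show g * (g * g) = 1 by rw [← pow_three]; exact hg, hone]
    abel
  have hcm : Commute a b := hab
  have hc3 : (a * b) ^ 3 = 1 := by rw [hcm.mul_pow, ha, hb, one_mul]
  have hd3 : (a * a * b) ^ 3 = 1 := by
    rw [(hcm.mul_left hcm).mul_pow, (Commute.refl a).mul_pow, ha, hb, one_mul, one_mul]
  have hba : b * a = a * b := hab.symm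
  have haaaa : a * a * (a * a) = a := by
    rw [show a * a * (a * a) = a ^ 3 * a by simp [pow_succ, mul_assoc], ha, one_mul]
  have e2 : a * b * (a * b) = a * a * (b * b) := (hcm.symm.mul_mul_mul_comm a b)
  have e3 : a * a * b * (a * a * b) = a * (b * b) := by
    rw [((hcm.mul_left hcm).symm).mul_mul_mul_comm (a * a) b, haaaa]
  have h1 := key a ha ha1 (ρ b v)
  have h1' := key a ha ha1 (ρ (b * b) v)
  have h3 := key (a * b) hc3 hc1 v
  have h4 := key (a * a * b) hd3 hd1 v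
  have h5 := key b hb hb1 v
  rw [← hmul, ← hmul] at h1 h1'
  rw [e2] at h3
  rw [e3] at h4
  linear_combination (norm := abel) h3 + h4 - h1 - h1' + h5 - h2 v

variable {G : Type u} [Group G] [Finite G]

/-- The involutions of the centre of `N`, as a module of the quotient. -/
theorem exists_module_of_kernel {N : Subgroup G} [N.Normal] (h2 : IsPGroup 2 N) (hN : N ≠ ⊥)
    (hfpf : ∀ d : G, Odd (orderOf d) → d ≠ 1 → ∀ x ∈ N, d * x = x * d → x = 1) {Q : Type*} [Group Q]
    (e : G ⧸ N ≃* Q) :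
    ∃ (V : Type u) (_ : AddCommGroup V) (ρ : Q →* AddMonoid.End V),
      (∀ v : V, v + v = 0) ∧ (∃ v : V, v ≠ 0) ∧
      ∀ g : Q, Odd (orderOf g) → g ≠ 1 → ∀ v, ρ g v = v → v = 0 := by
  haveI : Fact (Nat.Prime 2) := ⟨Nat.prime_two⟩
  let Z : Subgroup G :=
    { carrier := {x | x ∈ N ∧ x * x = 1 ∧ ∀ y ∈ N, x * y = y * x}
      one_mem' := ⟨one_mem _, mul_one 1, fun y _ => by rw [one_mul, mul_one]⟩
      mul_mem' := fun {a b} ha hb =>
        ⟨mul_mem ha.1 hb.1, by
          rw [mul_assoc, ← mul_assoc b, ← ha.2.2 b hb.1, mul_assoc a, hb.2.1, mul_one, ha.2.1],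
          fun y hy => by rw [mul_assoc, hb.2.2 y hy, ← mul_assoc, ha.2.2 y hy, mul_assoc]⟩
      inv_mem' := fun {a} ha => by
        rw [inv_eq_of_mul_eq_one_left ha.2.1]; exact ha }
  haveI : Z.Normal := ⟨fun x hx g => ⟨(inferInstance : N.Normal).conj_mem x hx.1 g,
    by
      rw [show g * x * g⁻¹ * (g * x * g⁻¹) = g * (x * x) * g⁻¹ by group, hx.2.1, mul_one,
        mul_inv_cancel],
    fun y hy => by
      have h1 := hx.2.2 (g⁻¹ * y * g) (by
        simpa using (inferInstance : N.Normal).conj_mem y hy g⁻¹)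
      calc g * x * g⁻¹ * y = g * (x * (g⁻¹ * y * g)) * g⁻¹ := by group
        _ = g * (g⁻¹ * y * g * x) * g⁻¹ := by rw [h1]
        _ = y * (g * x * g⁻¹) := by group⟩⟩
  haveI : IsMulCommutative Z := IsMulCommutative.of_comm fun a b => Subtype.ext (a.2.2.2 b b.2.1)
  obtain ⟨z, hz, hz1⟩ : ∃ z ∈ Z, z ≠ 1 := by
    haveI : Nontrivial N := (Subgroup.nontrivial_iff_ne_bot N).2 hN
    haveI := h2.center_nontrivial
    obtain ⟨k, hk0, hk⟩ := (h2.to_subgroup (Subgroup.center N)).nontrivial_iff_card.1 inferInstance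
    obtain ⟨w, hw⟩ := exists_prime_orderOf_dvd_card' (G := Subgroup.center N) 2
      (hk ▸ dvd_pow_self 2 (Nat.pos_iff_ne_zero.1 hk0))
    refine ⟨((w : N) : G), ⟨(w : N).2, ?_, fun y hy => ?_⟩, fun h => ?_⟩
    · have h1 : w * w = 1 := by rw [← pow_two]; exact orderOf_dvd_iff_pow_eq_one.1 (dvd_of_eq hw)
      exact congrArg (fun t : Subgroup.center N => ((t : N) : G)) h1
    · exact congrArg Subtype.val (Subgroup.mem_center_iff.1 w.2 ⟨y, hy⟩).symm
    · rw [show w = 1 from Subtype.ext (Subtype.ext h), orderOf_one] at hw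
      exact absurd hw (by decide)
  let p : G →* Q := e.toMonoidHom.comp (QuotientGroup.mk' N)
  have hp : Function.Surjective p := e.surjective.comp (QuotientGroup.mk'_surjective N)
  have hker : ∀ g, g ∈ p.ker ↔ g ∈ N := fun g => by
    rw [MonoidHom.mem_ker]
    show e (g : G ⧸ N) = 1 ↔ _
    rw [EmbeddingLike.map_eq_one_iff, QuotientGroup.eq_one_iff]
  have hc : ∀ g ∈ p.ker, ∀ a ∈ Z, g * a = a * g := fun g hg a ha => (ha.2.2 g ((hker g).1 hg)).symm
  refine ⟨Additive Z, inferInstance, CNSuzuki.actRep p hp Z hc, fun v => ?_,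
    ⟨Additive.ofMul ⟨z, hz⟩, fun h => hz1 ?_⟩,
    CNSuzuki.oddFpf_act p hp Z hc fun g hg hg1 x hx h => hfpf g hg hg1 x hx.1 h⟩
  · exact Additive.toMul.injective (Subtype.ext (Additive.toMul v : Z).2.2.1)
  · exact congrArg (fun v : Additive Z => ((Additive.toMul v : Z) : G)) h

/-- The kernel over `PSL(2, 2ⁿ)`. -/
theorem elementary_psl2 {N : Subgroup G} [N.Normal] (h2 : IsPGroup 2 N)
    (hfpf : ∀ d : G, Odd (orderOf d) → d ≠ 1 → ∀ x ∈ N, d * x = x * d → x = 1)
    {F : Type} [Field F] [Fintype F] [CharP F 2] (h4 : 4 ≤ Fintype.card F)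
    (e : G ⧸ N ≃* Matrix.ProjectiveSpecialLinearGroup (Fin 2) F) :
    ∀ x ∈ N, x * x = 1 ∧ ∀ y ∈ N, x * y = y * x := by
  classical
  haveI : Fact (Nat.Prime 3) := ⟨Nat.prime_three⟩
  have hF : ∃ a : F, a ≠ 0 ∧ a ≠ 1 := by
    by_contra h
    push Not at h
    have := (Finset.card_le_card (fun a _ => by
      rcases eq_or_ne a 0 with e | e
      · simp [e]
      · simp [h a e] : (Finset.univ : Finset F) ⊆ {0, 1})).trans Finset.card_le_two
    rw [Finset.card_univ] at this
    omega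
  have hbij : Function.Bijective (QuotientGroup.mk' (Subgroup.center SL(2, F))) := by
    refine ⟨(injective_iff_map_eq_one _).2 fun x hx => ?_, QuotientGroup.mk'_surjective _⟩
    have := (QuotientGroup.eq_one_iff x).1 hx
    rwa [CfsgLib.KGroups.AbelianTwo.center_sl2_char_two, Subgroup.mem_bot] at this
  let i : Matrix.ProjectiveSpecialLinearGroup (Fin 2) F ≃* SL(2, F) :=
    (MulEquiv.ofBijective _ hbij).symm
  let p : G →* SL(2, F) := (e.trans i).toMonoidHom.comp (QuotientGroup.mk' N)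
  have hp : Function.Surjective p := (e.trans i).surjective.comp (QuotientGroup.mk'_surjective N)
  have hker : p.ker = N := by
    ext g
    rw [MonoidHom.mem_ker]
    show (e.trans i) (g : G ⧸ N) = 1 ↔ _
    rw [EmbeddingLike.map_eq_one_iff, QuotientGroup.eq_one_iff]
  obtain ⟨x, hx⟩ : ∃ x : G, orderOf x = 3 := by
    refine exists_prime_orderOf_dvd_card' 3 (dvd_trans ?_ (Subgroup.card_dvd_of_surjective p hp))
    rw [CfsgLib.Classical.card_sl2']
    obtain ⟨k, -, hk⟩ := FiniteField.card F 2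
    rcases (show Fintype.card F % 3 = 0 ∨ Fintype.card F % 3 = 1 ∨ Fintype.card F % 3 = 2 by omega)
      with h | h | h
    · exact dvd_mul_of_dvd_left (Nat.dvd_of_mod_eq_zero h) _
    · exact dvd_mul_of_dvd_right (dvd_mul_of_dvd_left (Nat.dvd_of_mod_eq_zero (by omega)) _) _
    · exact dvd_mul_of_dvd_right (dvd_mul_of_dvd_right (Nat.dvd_of_mod_eq_zero (by omega)) _) _
  obtain ⟨hab, hsq⟩ := CfsgLib.LocalEvenB.HigmanSL2.elementary hF _ G N h2 le_rfl p hp hker x hx
    fun q hq h => hfpf x (by rw [hx]; decide) (fun h1 => by rw [h1, orderOf_one] at hx; omega) q hq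
      (mul_inv_eq_iff_eq_mul.1 h)
  exact fun y hy => ⟨by rw [← pow_two]; exact hsq y hy, hab y hy⟩

/-- The kernel over a Suzuki group. -/
theorem elementary_suzuki {N : Subgroup G} [N.Normal] (h2 : IsPGroup 2 N)
    (hfpf : ∀ d : G, Odd (orderOf d) → d ≠ 1 → ∀ x ∈ N, d * x = x * d → x = 1)
    {F : Type} [Field F] [Fintype F] {m : ℕ} (hm : 1 ≤ m) (hF : Fintype.card F = 2 ^ (2 * m + 1))
    (e : G ⧸ N ≃* Cfsg.Lie.Sz F (2 ^ (m + 1))) :
    ∀ x ∈ N, x * x = 1 ∧ ∀ y ∈ N, x * y = y * x := by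
  have he := CfsgLib.KnownB.SzElem.twist_of_card hF
  let p : G →* Cfsg.Lie.Sz F (2 ^ (m + 1)) := e.toMonoidHom.comp (QuotientGroup.mk' N)
  have hp : Function.Surjective p := e.surjective.comp (QuotientGroup.mk'_surjective N)
  have hker : p.ker = N := by
    ext g
    rw [MonoidHom.mem_ker]
    show e (g : G ⧸ N) = 1 ↔ _
    rw [EmbeddingLike.map_eq_one_iff, QuotientGroup.eq_one_iff]
  intro x hx
  obtain ⟨h1, h3⟩ := CNSuzuki.elementary_of_fpf he
    (CfsgLib.KnownB.Suzuki.exists_pow_ne he hm hF) _ p rfl hp (by rw [hker]; exact h2)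
    (by rw [hker]; exact hfpf) x (by rw [hker]; exact hx)
  exact ⟨by rw [← pow_two]; exact h1, fun y hy => h3 y (by rw [hker]; exact hy)⟩

/-- The structure of nonsolvable CN-groups. -/
theorem structure_of_cn (hns : ¬ Group.IsSolvable G) (hCN : Cfsg.IsCNGroup G) :
    (IsSimpleGroup G ∧ ¬ IsMulCommutative G) ∨
    (∃ (N : Subgroup G), N.Normal ∧ N.index = 2 ∧ ∃ (F : Type) (_ : Field F) (_ : Fintype F),
      Fintype.card F = 9 ∧ Nonempty (N ≃* Matrix.ProjectiveSpecialLinearGroup (Fin 2) F)) ∨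
    (∃ (N : Subgroup G) (_ : N.Normal), N ≠ ⊥ ∧ IsPGroup 2 N ∧ IsMulCommutative N ∧
      (∀ x ∈ N, x * x = 1) ∧
        ((∃ (F : Type) (_ : Field F) (_ : Fintype F), CharP F 2 ∧ 4 ≤ Fintype.card F ∧
            Nonempty (G ⧸ N ≃* Matrix.ProjectiveSpecialLinearGroup (Fin 2) F)) ∨
          Cfsg.IsSuzuki (G ⧸ N))) := by
  classical
  obtain ⟨N, hNn, h2, hFQ, hnsQ, hCNQ, hfpf⟩ := exists_kernel hns hCN
  haveI := hNn
  rcases eq_or_ne N ⊥ with hN | hN
  · have hF : ∀ K : Subgroup G, K.Normal → Group.IsNilpotent K → K = ⊥ := by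
      intro K hKn hKnil
      haveI := hKn
      haveI := hKnil
      have h := hFQ (K.map (QuotientGroup.mk' N))
        (Subgroup.Normal.map hKn _ (QuotientGroup.mk'_surjective N))
        (Group.nilpotent_of_surjective _ ((QuotientGroup.mk' N).subgroupMap_surjective K))
      rw [Subgroup.map_eq_bot_iff, QuotientGroup.ker_mk', hN, le_bot_iff] at h
      exact h
    rcases semisimple hns hF hCN with ⟨hs, hna, -⟩ | h
    · exact Or.inl ⟨hs, hna⟩
    · exact Or.inr (Or.inl h)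
  have hfpf := hfpf hN
  refine Or.inr (Or.inr ⟨N, hNn, hN, h2, ?_⟩)
  have hno9 : ∀ {Q : Type u} [Group Q] (e : G ⧸ N ≃* Q) (a b : Q), a * b = b * a → a ^ 3 = 1 →
      b ^ 3 = 1 → a ≠ 1 → b ≠ 1 → a * b ≠ 1 → a * a * b ≠ 1 → False := by
    intro Q _ e a b hab ha hb ha1 hb1 hc hd
    obtain ⟨V, _, ρ, hV2, ⟨v, hv⟩, hρ⟩ := exists_module_of_kernel h2 hN hfpf e
    exact hv (no_module_nine hV2 ρ hρ hab ha hb ha1 hb1 hc hd v)
  rcases semisimple hnsQ hFQ hCNQ with ⟨hs, hna, hlist⟩ | ⟨M, hMn, -, F, hFd, hFt, h9, ⟨φ⟩⟩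
  swap
  · exfalso
    obtain ⟨a, b, hab, ha, hb, ha1, hb1, hc, hd⟩ := psl2_nine_nine (F := F) h9
    let f : Matrix.ProjectiveSpecialLinearGroup (Fin 2) F →* G ⧸ N :=
      M.subtype.comp φ.symm.toMonoidHom
    have hf : Function.Injective f := M.subtype_injective.comp φ.symm.injective
    exact hno9 (MulEquiv.refl _) (f a) (f b) (by rw [← map_mul, ← map_mul, hab])
      (by rw [← map_pow, ha, map_one]) (by rw [← map_pow, hb, map_one])
      ((map_ne_one_iff f hf).2 ha1) ((map_ne_one_iff f hf).2 hb1)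
      (by rw [← map_mul]; exact (map_ne_one_iff f hf).2 hc)
      (by rw [← map_mul, ← map_mul]; exact (map_ne_one_iff f hf).2 hd)
  haveI := hs
  -- a pair of commuting elements of order three in the quotient is impossible
  have hno9' : ∀ {Q : Type} [Group Q] (φ : G ⧸ N ≃* Q) (a b : Q), a * b = b * a → a ^ 3 = 1 →
      b ^ 3 = 1 → a ≠ 1 → b ≠ 1 → a * b ≠ 1 → a * a * b ≠ 1 → False := by
    intro Q _ φ a b hab ha hb ha1 hb1 hc hd
    have hf := φ.symm.injective
    exact hno9 (MulEquiv.refl _) (φ.symm a) (φ.symm b) (by rw [← map_mul, ← map_mul, hab])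
      (by rw [← map_pow, ha, map_one]) (by rw [← map_pow, hb, map_one])
      (fun h => ha1 (hf (h.trans (map_one _).symm))) (fun h => hb1 (hf (h.trans (map_one _).symm)))
      (fun h => hc (hf (by rw [map_mul, map_one]; exact h)))
      (fun h => hd (hf (by rw [map_mul, map_mul, map_one]; exact h)))
  have finish : ∀ (F : Type) (_ : Field F) (_ : Fintype F), CharP F 2 → 4 ≤ Fintype.card F →
      Nonempty (G ⧸ N ≃* Matrix.ProjectiveSpecialLinearGroup (Fin 2) F) →
      IsMulCommutative N ∧ (∀ x ∈ N, x * x = 1) ∧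
        ((∃ (F : Type) (_ : Field F) (_ : Fintype F), CharP F 2 ∧ 4 ≤ Fintype.card F ∧
            Nonempty (G ⧸ N ≃* Matrix.ProjectiveSpecialLinearGroup (Fin 2) F)) ∨
          Cfsg.IsSuzuki (G ⧸ N)) := by
    intro F _ _ hc h4 ⟨e⟩
    haveI := hc
    have h := elementary_psl2 h2 hfpf h4 e
    exact ⟨IsMulCommutative.of_comm fun a b => Subtype.ext ((h a a.2).2 b b.2), fun x hx => (h x hx).1,
      Or.inl ⟨F, _, _, hc, h4, ⟨e⟩⟩⟩
  rcases hlist with ⟨F, hFd, hFt, hcond, ⟨φ⟩⟩ | ⟨F, hFd, hFt, h4, ⟨φ⟩⟩ | ⟨F, hFd, hFt, m, hm, hcard, ⟨φ⟩⟩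
  · have hq := four_le_card hna φ
    rcases hcond with h9 | ⟨n, hn⟩ | ⟨hpr, -⟩
    · exfalso
      obtain ⟨a, b, hab, ha, hb, ha1, hb1, hc, hd⟩ := psl2_nine_nine (F := F) h9
      exact hno9' φ a b hab ha hb ha1 hb1 hc hd
    · haveI : Fact (Nat.Prime 2) := ⟨Nat.prime_two⟩
      haveI : CharP F 2 := charP_of_card_eq_prime_pow hn
      exact finish F hFd hFt inferInstance hq ⟨φ⟩
    · haveI := Fact.mk hpr
      by_cases h7 : 7 ≤ Fintype.card F
      · exfalso
        obtain ⟨V, _, ρ, hV2, ⟨v, hv⟩, hρ⟩ := exists_module_of_kernel h2 hN hfpf φ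
        exact hv (psl2_prime_no_module h7 rfl hV2 ρ hρ v)
      · have h5 : Fintype.card F = 5 := by
          have hp := hpr
          interval_cases hc : Fintype.card F
          · exact absurd hp (by decide)
          · rfl
          · exact absurd hp (by decide)
        haveI : Fact (Nat.Prime 2) := ⟨Nat.prime_two⟩
        haveI : Fintype (GaloisField 2 2) := Fintype.ofFinite _
        have h4 : Fintype.card (GaloisField 2 2) = 4 := by
          rw [← Nat.card_eq_fintype_card, GaloisField.card 2 2 (by norm_num)]; norm_num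
        haveI := CfsgLib.Classical.psl_fin_isSimpleGroup (F := F) le_rfl (fun _ => hq)
        obtain ⟨α⟩ := CfsgLib.KGroups.AbelianTwo.psl2_equiv_alt5 (F := F) (Or.inr h5)
        obtain ⟨β⟩ := CfsgLib.Classical.Quat.psl2_four_equiv_alt h4
        exact finish (GaloisField 2 2) _ _ inferInstance h4.ge ⟨φ.trans (α.trans β.symm)⟩
  · exfalso
    obtain ⟨a, b, hab, ha, hb, ha1, hb1, hc, hd⟩ := psl3_four_nine h4
    exact hno9' φ a b hab ha hb ha1 hb1 hc hd
  · have h := elementary_suzuki h2 hfpf hm hcard φ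
    exact ⟨IsMulCommutative.of_comm fun a b => Subtype.ext ((h a a.2).2 b b.2), fun x hx => (h x hx).1,
      Or.inr (CfsgLib.Recognition.CIT.isSuzuki_of_iso ⟨F, hFd, hFt, m, hm, hcard, ⟨φ⟩⟩)⟩

end CfsgLib.Recognition.CNStructure
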