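import Cfsg.Agent.Lib.KnownA.SL2Products.PSL
import Cfsg.Agent.Lib.Perm.OddProduct.PSLTwo
import Cfsg.Agent.Lib.Involution.PSL3Four
import Cfsg.Agent.Lib.KnownC.SuzukiProducts.Covering
import Cfsg.Agent.Lib.KGroups.AbelianTwo.SLTwo

/-!
# Classes of involutions and of elements of order three or five in small-rank linear and Suzuki groups
-/

set_option autoImplicit false
set_option linter.style.haveILetI false
set_option linter.unusedSectionVars false

namespace CfsgLib.Recognition.CNStructure

open Matrix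
open scoped MatrixGroups

/-- One class of involutions. -/
def OneClass (M : Type*) [Group M] : Prop :=
  ∀ x y : M, orderOf x = 2 → orderOf y = 2 → IsConj x y

/-- Some nontrivial element of odd order is conjugate to all elements of its order. -/
def Rigid (M : Type*) [Group M] : Prop :=
  ∃ x : M, x ≠ 1 ∧ Odd (orderOf x) ∧ ∀ y, orderOf y = orderOf x → IsConj x y

/-- Some nontrivial element of odd order has at most two classes of elements of its order. -/
def TwoRigid (M : Type*) [Group M] : Prop :=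
  ∃ x : M, x ≠ 1 ∧ Odd (orderOf x) ∧ ∀ y z, orderOf y = orderOf x → orderOf z = orderOf x →
    IsConj x y ∨ IsConj x z ∨ IsConj y z

theorem OneClass.of_iso {M N : Type*} [Group M] [Group N] (h : OneClass N) (e : M ≃* N) :
    OneClass M := fun x y hx hy => by
  have := h (e x) (e y) (by rw [e.orderOf_eq, hx]) (by rw [e.orderOf_eq, hy])
  simpa using e.symm.toMonoidHom.map_isConj this

theorem Rigid.of_iso {M N : Type*} [Group M] [Group N] (h : Rigid N) (e : M ≃* N) : Rigid M := by
  obtain ⟨x, hx1, hxo, hx⟩ := h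
  refine ⟨e.symm x, by simpa using hx1, by rwa [e.symm.orderOf_eq], fun y hy => ?_⟩
  rw [e.symm.orderOf_eq] at hy
  have := hx (e y) (by rw [e.orderOf_eq, hy])
  simpa using e.symm.toMonoidHom.map_isConj this

theorem TwoRigid.of_iso {M N : Type*} [Group M] [Group N] (h : TwoRigid N) (e : M ≃* N) :
    TwoRigid M := by
  obtain ⟨x, hx1, hxo, hx⟩ := h
  refine ⟨e.symm x, by simpa using hx1, by rwa [e.symm.orderOf_eq], fun y z hy hz => ?_⟩
  rw [e.symm.orderOf_eq] at hy hz
  rcases hx (e y) (e z) (by rw [e.orderOf_eq, hy]) (by rw [e.orderOf_eq, hz]) with h' | h' | h' <;>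
    replace h' := e.symm.toMonoidHom.map_isConj h' <;>
      simp only [MulEquiv.coe_toMonoidHom, MulEquiv.symm_apply_apply] at h'
  · exact Or.inl h'
  · exact Or.inr (Or.inl h')
  · exact Or.inr (Or.inr h')

section SL2

open CfsgLib.KnownA.SL2Products CfsgLib.KnownA.SL2Torus CfsgLib.KnownB.GL2 CfsgLib.Classical

variable {F : Type*} [Field F] [Fintype F]

local notation "Mat" => Matrix (Fin 2) (Fin 2) F
local notation "P2" => Matrix.ProjectiveSpecialLinearGroup (Fin 2) F

theorem psl2_oneClass : OneClass P2 := fun x y hx hy => by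
  have h : ∀ z : P2, orderOf z = 2 → z ≠ 1 ∧ z * z = 1 := fun z hz =>
    ⟨fun e => by rw [e, orderOf_one] at hz; omega, by rw [← pow_two]; exact orderOf_dvd_iff_pow_eq_one.1 (dvd_of_eq hz)⟩
  exact CfsgLib.Perm.OddProduct.PSLTwo.isConj_of_involution (h x hx).1 (h x hx).2 (h y hy).1
    (h y hy).2

theorem not_scal_of_ne_one {X : SL(2, F)} (h : proj X ≠ 1) : ¬ Scal (X : Mat) := fun hs =>
  h (proj_eq_one.2 ((scal_iff_pm _).1 hs))

theorem eq_zero_of_nonscal {X : SL(2, F)} (hX : ¬ Scal (X : Mat)) {a b : F}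
    (h : a • (X : Mat) = b • (1 : Mat)) : a = 0 := by
  by_contra ha
  refine hX ((scal_iff_exists _).2 ⟨a⁻¹ * b, ?_⟩)
  rw [mul_smul, ← h, smul_smul, inv_mul_cancel₀ ha, one_smul]

theorem cube_eq (X : SL(2, F)) :
    ((X ^ 3 : SL(2, F)) : Mat) = ((X : Mat).trace ^ 2 - 1) • (X : Mat) - (X : Mat).trace • (1 : Mat) := by
  have h := sl2_sq X
  rw [Matrix.SpecialLinearGroup.coe_pow]
  calc (X : Mat) ^ 3 = (X : Mat) * ((X : Mat) * (X : Mat)) := by simp [pow_succ, mul_assoc]
    _ = _ := by
      simp only [h, mul_sub, Matrix.mul_smul, Matrix.mul_one, smul_sub, smul_smul, sub_smul, one_smul,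
        pow_two]
      abel

theorem five_eq (X : SL(2, F)) :
    ((X ^ 5 : SL(2, F)) : Mat) = ((X : Mat).trace ^ 4 - 3 * (X : Mat).trace ^ 2 + 1) • (X : Mat) -
      ((X : Mat).trace ^ 3 - 2 * (X : Mat).trace) • (1 : Mat) := by
  have h := sl2_sq X
  rw [Matrix.SpecialLinearGroup.coe_pow]
  calc (X : Mat) ^ 5 = (X : Mat) * ((X : Mat) * ((X : Mat) * ((X : Mat) * (X : Mat)))) := by
        simp [pow_succ, mul_assoc]
    _ = _ := by
      simp only [h, mul_sub, Matrix.mul_smul, Matrix.mul_one, smul_sub, smul_smul]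
      module

theorem exists_lift {x : P2} {n : ℕ} (hn : Odd n) (hx : x ^ n = 1) :
    ∃ X : SL(2, F), proj X = x ∧ X ^ n = 1 := by
  obtain ⟨X, rfl⟩ := proj_surjective x
  rw [← map_pow] at hx
  rcases proj_eq_one.1 hx with h | h
  · exact ⟨X, rfl, h⟩
  · exact ⟨-X, proj_neg X, by rw [hn.neg_pow, h, neg_neg]⟩

theorem trace_of_order_three {x : P2} (hx : orderOf x = 3) :
    ∃ X : SL(2, F), proj X = x ∧ ¬ Scal (X : Mat) ∧ (X : Mat).trace = -1 := by
  obtain ⟨X, rfl, hX⟩ := exists_lift (n := 3) (by decide) (by rw [← hx, pow_orderOf_eq_one])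
  have hns := not_scal_of_ne_one (X := X) fun h => by rw [h, orderOf_one] at hx; omega
  have h := cube_eq X
  rw [hX, Matrix.SpecialLinearGroup.coe_one] at h
  have h0 : (X : Mat).trace ^ 2 - 1 = 0 := eq_zero_of_nonscal hns
    (b := 1 + (X : Mat).trace) (by rw [add_smul, one_smul]; linear_combination (norm := module) -h)
  rw [h0, zero_smul, zero_sub] at h
  have h00 := congrFun (congrFun h 0) 0
  simp at h00
  exact ⟨X, rfl, hns, by linear_combination h00⟩

theorem psl2_rigid (h3 : (3 : F) ≠ 0) : Rigid P2 := by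
  let X : SL(2, F) := ⟨!![0, -1; 1, -1], by simp [Matrix.det_fin_two]⟩
  have hns : ¬ Scal (X : Mat) := fun h => by
    obtain ⟨c, hc⟩ := (scal_iff_exists _).1 h
    have := congrFun (congrFun hc 1) 0
    simp [X] at this
  have htr : (X : Mat).trace = -1 := by simp [X, Matrix.trace_fin_two]
  have hX3 : X ^ 3 = 1 := Subtype.ext (by
    rw [cube_eq, htr]
    simp)
  have hne : proj X ≠ 1 := fun h => hns ((scal_iff_pm _).2 (proj_eq_one.1 h))
  have hord : orderOf (proj X) = 3 :=
    orderOf_eq_prime (by rw [← map_pow, hX3, map_one]) hne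
  refine ⟨proj X, hne, by rw [hord]; decide, fun y hy => ?_⟩
  obtain ⟨Y, rfl, -, hYt⟩ := trace_of_order_three (hy.trans hord)
  obtain ⟨h, hh⟩ := exists_conj_of_trace hns htr (by
    rw [dsc]
    intro e
    exact h3 (by linear_combination -e)) hYt
  exact isConj_iff.2 ⟨h, hh⟩

theorem psl2_nine_twoRigid (hF : Fintype.card F = 9) : TwoRigid P2 := by
  have h9 : ((9 : ℕ) : F) = 0 := by rw [← hF]; exact FiniteField.cast_card_eq_zero F
  have hcard : Nat.card P2 = 360 := by
    have h2 : (2 : F) ≠ 0 := fun h2 => one_ne_zero (α := F) (by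
      have h9' : (9 : F) = 0 := by exact_mod_cast h9
      linear_combination h9' - 4 * h2)
    have h := (CfsgLib.Classical.Quat.two_mul_card_psl (F := F) h2).trans CfsgLib.Classical.card_sl2'
    rw [hF] at h
    omega
  haveI : Fact (Nat.Prime 5) := ⟨Nat.prime_five⟩
  obtain ⟨x, hx⟩ := exists_prime_orderOf_dvd_card' (G := P2) 5 (by rw [hcard]; norm_num)
  have h3 : (3 : F) = 0 := by
    have h : ((9 : ℕ) : F) = 0 := by rw [← hF]; exact FiniteField.cast_card_eq_zero F
    have : (3 : F) * 3 = 0 := by norm_num; exact_mod_cast h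
    exact mul_self_eq_zero.mp this
  have key : ∀ y : P2, orderOf y = 5 → ∃ Y : SL(2, F), proj Y = y ∧ ¬ Scal (Y : Mat) ∧
      (Y : Mat).trace ^ 2 + (Y : Mat).trace - 1 = 0 := by
    intro y hy
    obtain ⟨Y, rfl, hY⟩ := exists_lift (n := 5) (by decide) (by rw [← hy, pow_orderOf_eq_one])
    have hns := not_scal_of_ne_one (X := Y) fun h => by rw [h, orderOf_one] at hy; omega
    have h := five_eq Y
    rw [hY, Matrix.SpecialLinearGroup.coe_one] at h
    set t := (Y : Mat).trace
    have h0 : t ^ 4 - 3 * t ^ 2 + 1 = 0 := eq_zero_of_nonscal hns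
      (b := 1 + (t ^ 3 - 2 * t)) (by rw [add_smul, one_smul]; linear_combination (norm := module) -h)
    rw [h0, zero_smul, zero_sub] at h
    have h00 := congrFun (congrFun h 0) 0
    simp at h00
    have h1 : (t - 1) * (t ^ 2 + t - 1) = 0 := by linear_combination h00
    refine ⟨Y, rfl, hns, (mul_eq_zero.1 h1).resolve_left fun e => one_ne_zero (α := F) ?_⟩
    rw [sub_eq_zero.1 e] at h0
    linear_combination -h0
  have hconj : ∀ {Y Z : SL(2, F)}, ¬ Scal (Y : Mat) →
      (Y : Mat).trace ^ 2 + (Y : Mat).trace - 1 = 0 → (Z : Mat).trace = (Y : Mat).trace →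
      IsConj (proj Y) (proj Z) := by
    intro Y Z hY ht hZ
    obtain ⟨h, hh⟩ := exists_conj_of_trace hY rfl (by
      rw [dsc]
      intro e
      exact one_ne_zero (α := F) (by
        linear_combination ((Y : Mat).trace) * ht - ((Y : Mat).trace + 1) * e - ((Y : Mat).trace + 1) * h3)) hZ
    exact isConj_iff.2 ⟨h, hh⟩
  refine ⟨x, fun h => by rw [h, orderOf_one] at hx; omega, by rw [hx]; decide, fun y z hy hz => ?_⟩
  obtain ⟨X, rfl, hXs, hXt⟩ := key x hx
  obtain ⟨Y, rfl, hYs, hYt⟩ := key y (hy.trans hx)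
  obtain ⟨Z, rfl, -, hZt⟩ := key z (hz.trans hx)
  set a := (X : Mat).trace
  set b := (Y : Mat).trace
  set c := (Z : Mat).trace
  by_cases hab : b = a
  · exact Or.inl (hconj hXs hXt hab)
  by_cases hac : c = a
  · exact Or.inr (Or.inl (hconj hXs hXt hac))
  refine Or.inr (Or.inr (hconj hYs hYt ?_))
  have h1 : (b - a) * (b + a + 1) = 0 := by linear_combination hYt - hXt
  have h2 : (c - a) * (c + a + 1) = 0 := by linear_combination hZt - hXt
  have h1' := (mul_eq_zero.1 h1).resolve_left (sub_ne_zero.2 hab)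
  have h2' := (mul_eq_zero.1 h2).resolve_left (sub_ne_zero.2 hac)
  show c = b
  linear_combination h2' - h1'

/-- The upper unitriangular element. -/
def upr (a : F) : SL(2, F) := ⟨!![1, a; 0, 1], by simp [Matrix.det_fin_two]⟩

theorem coe_upr (a : F) : ((upr a : SL(2, F)) : Mat) = !![1, a; 0, 1] := rfl

/-- The Weyl element. -/
def wey (F : Type*) [Field F] : SL(2, F) := ⟨!![0, -1; 1, 0], by simp [Matrix.det_fin_two]⟩

theorem coe_wey : ((wey F : SL(2, F)) : Mat) = !![0, -1; 1, 0] := rfl

theorem upr_add (a b : F) : upr (a + b) = upr a * upr b := by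
  apply Subtype.ext
  ext i j
  fin_cases i <;> fin_cases j <;> simp [coe_upr, Matrix.mul_apply, Fin.sum_univ_two, add_comm]

theorem upr_zero : upr (0 : F) = 1 := by
  apply Subtype.ext
  ext i j
  fin_cases i <;> fin_cases j <;> simp [upr]

theorem proj_upr_ne_one {a : F} (ha : a ≠ 0) : proj (upr a) ≠ 1 := fun h => by
  rcases proj_eq_one.1 h with e | e <;>
    · have := congrFun (congrFun (congrArg Subtype.val e) 0) 1
      simp [upr] at this
      exact ha this

/-- `PSL(2, 9)` has an elementary abelian subgroup of order nine. -/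
theorem psl2_nine_nine (hF : Fintype.card F = 9) :
    ∃ a b : P2, a * b = b * a ∧ a ^ 3 = 1 ∧ b ^ 3 = 1 ∧ a ≠ 1 ∧ b ≠ 1 ∧ a * b ≠ 1 ∧ a * a * b ≠ 1 := by
  classical
  have h3 : (3 : F) = 0 := by
    have h : ((9 : ℕ) : F) = 0 := by rw [← hF]; exact FiniteField.cast_card_eq_zero F
    have : (3 : F) * 3 = 0 := by norm_num; exact_mod_cast h
    exact mul_self_eq_zero.mp this
  obtain ⟨c, hc⟩ : ∃ c : F, c ∉ ({0, 1, -1} : Finset F) := by
    by_contra h
    push Not at h
    have := (Finset.card_le_card (fun x _ => h x : (Finset.univ : Finset F) ⊆ {0, 1, -1})).trans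
      Finset.card_le_three
    rw [Finset.card_univ, hF] at this
    omega
  simp only [Finset.mem_insert, Finset.mem_singleton, not_or] at hc
  have hpow : ∀ a : F, proj (upr a) ^ 3 = 1 := fun a => by
    rw [← map_pow, pow_succ, pow_two, ← upr_add, ← upr_add,
      show a + a + a = 0 by linear_combination a * h3, upr_zero, map_one]
  refine ⟨proj (upr 1), proj (upr c), ?_, hpow _, hpow _, proj_upr_ne_one one_ne_zero,
    proj_upr_ne_one hc.1, ?_, ?_⟩
  · rw [← map_mul, ← map_mul, ← upr_add, ← upr_add, add_comm]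
  · rw [← map_mul, ← upr_add]
    exact proj_upr_ne_one fun e => hc.2.2 (by linear_combination e)
  · rw [← map_mul, ← map_mul, ← upr_add, ← upr_add]
    exact proj_upr_ne_one fun e => hc.2.1 (by linear_combination e - h3)

/-- On a module of `PSL(2, p)`, `p ≥ 7`, the elements of odd order cannot all act without fixed
points. -/
theorem psl2_prime_no_module {p : ℕ} [Fact p.Prime] (hp : 7 ≤ p) (hF : Fintype.card F = p)
    {V : Type*} [AddCommGroup V] (h2 : ∀ v : V, v + v = 0) (ρ : P2 →* AddMonoid.End V)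
    (hfpf : ∀ g : P2, Odd (orderOf g) → g ≠ 1 → ∀ v, ρ g v = v → v = 0) (v : V) : v = 0 := by
  classical
  haveI : CharP F p := charP_of_card_eq_prime (by exact hF)
  have hmul : ∀ g h v, ρ (g * h) v = ρ g (ρ h v) := fun g h v => by rw [map_mul]; rfl
  have hone : ∀ v, ρ 1 v = v := fun v => by rw [map_one]; rfl
  let U : F → P2 := fun a => proj (upr a)
  have hU : ∀ a b, U (a + b) = U a * U b := fun a b => by simp only [U, upr_add, map_mul]
  have hU0 : U 0 = 1 := by simp only [U, upr_zero, map_one]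
  let s₀ : SL(2, F) := wey F
  set s := proj s₀ with hs
  have hss : s * s = 1 := by
    rw [hs, ← map_mul, proj_eq_one]
    refine Or.inr (Subtype.ext ?_)
    ext i j
    fin_cases i <;> fin_cases j <;> simp [s₀, coe_wey, Matrix.mul_apply, Fin.sum_univ_two]
  have hsi : s⁻¹ = s := inv_eq_of_mul_eq_one_right hss
  set r := s * U 1 with hr
  have hr3 : r ^ 3 = 1 := by
    rw [hr, hs, ← map_mul, ← map_pow, proj_eq_one]
    refine Or.inr (Subtype.ext ?_)
    ext i j
    fin_cases i <;> fin_cases j <;>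
      simp [s₀, coe_wey, coe_upr, pow_succ, Matrix.mul_apply, Fin.sum_univ_two]
  have hr1 : r ≠ 1 := fun h => by
    rw [hr, hs, ← map_mul, proj_eq_one] at h
    rcases h with e | e <;>
      · have := congrFun (congrFun (congrArg Subtype.val e) 1) 0
        simp [s₀, coe_wey, coe_upr, Matrix.mul_apply, Fin.sum_univ_two] at this
  have hro : Odd (orderOf r) := Odd.of_dvd_nat (by decide) (orderOf_dvd_of_pow_eq_one hr3)
  have hrel : ∀ v, ρ s (ρ (U 1) v) + ρ (U (-1)) (ρ s v) = v := by
    intro v
    have h0 : v + ρ r v + ρ r (ρ r v) = 0 := by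
      refine hfpf r hro hr1 _ ?_
      rw [map_add, map_add, ← hmul, ← hmul,
        show r * (r * r) = 1 by rw [← pow_three]; exact hr3, hone]
      abel
    have hinv : r * r = U (-1) * s := by
      rw [show r * r = r⁻¹ from (inv_eq_of_mul_eq_one_right (by rw [← pow_three]; exact hr3)).symm,
        hr, _root_.mul_inv_rev, hsi,
        show (U 1)⁻¹ = U (-1) from inv_eq_of_mul_eq_one_right (by rw [← hU, add_neg_cancel, hU0])]
    rw [← hmul r r, hinv, hr, hmul, hmul] at h0
    have := h2 v
    linear_combination (norm := abel) h0 - this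
  let m : V → V := fun v => ρ (U 1) v + ρ (U (-1)) v
  have hms : ∀ v, m (ρ s v) = ρ s (m v) := by
    intro v
    have hA := hrel v
    have hB : ρ (U 1) (ρ s v) + ρ s (ρ (U (-1)) v) = v := by
      have h1 := congrArg (ρ (U 1)) (hrel (ρ (U (-1)) v))
      have hcancel : ∀ x, ρ (U 1) (ρ (U (-1)) x) = x := fun x => by
        rw [← hmul, ← hU, add_neg_cancel, hU0, hone]
      simp only [map_add, hcancel] at h1
      linear_combination (norm := abel) h1
    show ρ (U 1) (ρ s v) + ρ (U (-1)) (ρ s v) = ρ s (ρ (U 1) v + ρ (U (-1)) v)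
    rw [map_add]
    have := h2 (ρ s (ρ (U 1) v) + ρ s (ρ (U (-1)) v))
    have := h2 v
    linear_combination (norm := abel) hA + hB + this - h2 (ρ s (ρ (U 1) v) + ρ s (ρ (U (-1)) v))
  have hmU : ∀ a v, m (ρ (U a) v) = ρ (U a) (m v) := fun a v => by
    show ρ (U 1) (ρ (U a) v) + ρ (U (-1)) (ρ (U a) v) = ρ (U a) (ρ (U 1) v + ρ (U (-1)) v)
    simp only [map_add, ← hmul, ← hU, add_comm a]
  obtain ⟨α, hα0, hα⟩ : ∃ α : F, α ≠ 0 ∧ (α * α) * (α * α) ≠ 1 := by
    by_contra h
    push Not at h
    have hsub : (Finset.univ : Finset F) ⊆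
        insert 0 (Polynomial.nthRootsFinset 4 (1 : F)) := fun a _ => by
      rcases eq_or_ne a 0 with rfl | ha
      · simp
      · refine Finset.mem_insert_of_mem ((Polynomial.mem_nthRootsFinset (by norm_num) _).2 ?_)
        linear_combination h a ha
    have hle : (Polynomial.nthRootsFinset 4 (1 : F)).card ≤ 4 := by
      rw [Polynomial.nthRootsFinset_def]
      exact (Multiset.toFinset_card_le _).trans (Polynomial.card_nthRoots 4 1)
    have := (Finset.card_le_card hsub).trans ((Finset.card_insert_le _ _).trans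
      (Nat.add_le_add_right hle 1))
    rw [Finset.card_univ, hF] at this
    omega
  set a := α * α with ha
  set h := U α * s * U α⁻¹ * s * U α * s with hh
  have hmh : ∀ v, m (ρ h v) = ρ h (m v) := fun v => by
    simp only [hh, hmul, hms, hmU]
  have hconj : ∀ x, h * U x = U (a * x) * h := by
    intro x
    rw [hh]
    simp only [U, hs, ← map_mul]
    congr 1
    apply Subtype.ext
    ext i j
    fin_cases i <;> fin_cases j <;>
      simp [s₀, coe_wey, coe_upr, ha, Matrix.mul_apply, Fin.sum_univ_two, hα0] <;> field_simp <;>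
      (try ring_nf) <;> simp
  have hkey : ∀ v, ρ (U a) v + ρ (U (-a)) v = ρ (U 1) v + ρ (U (-1)) v := by
    intro v
    obtain ⟨w, rfl⟩ : ∃ w, ρ h w = v := ⟨ρ h⁻¹ v, by rw [← hmul, mul_inv_cancel, hone]⟩
    rw [← hmul, ← hmul (U (-a))]
    have e1 : U a * h = h * U 1 := by rw [hconj, mul_one]
    have e2 : U (-a) * h = h * U (-1) := by rw [hconj, mul_neg_one]
    rw [e1, e2, hmul h (U 1), hmul h (U (-1)), ← map_add]
    exact (hmh w).symm
  have hfix : ∀ b : F, b ≠ 0 → ∀ w, ρ (U b) w = w → w = 0 := by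
    intro b hb w hw
    refine hfpf _ ?_ (proj_upr_ne_one hb) w hw
    refine Odd.of_dvd_nat ((Fact.out : p.Prime).odd_of_ne_two (by omega))
      (orderOf_dvd_of_pow_eq_one ?_)
    have hn : ∀ n : ℕ, U b ^ n = U (n * b) := fun n => by
      induction n with
      | zero => simp [hU0]
      | succ n ih => rw [pow_succ, ih, ← hU, Nat.cast_succ, add_mul, one_mul]
    rw [hn, CharP.cast_eq_zero, zero_mul, hU0]
  have ha1 : a - 1 ≠ 0 := fun e => hα (by linear_combination (a + 1) * e)
  have ha2 : a + 1 ≠ 0 := fun e => hα (by linear_combination (a - 1) * e)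
  refine hfix _ ha2 v (sub_eq_zero.1 (hfix _ ha1 _ ?_))
  have h1 := congrArg (ρ (U a)) (hkey v)
  simp only [map_add, ← hmul, ← hU, add_neg_cancel, hU0, hone] at h1
  rw [← sub_eq_add_neg] at h1
  rw [map_sub, ← hmul, ← hU, show a - 1 + (a + 1) = a + a by ring]
  linear_combination (norm := abel) h1

end SL2

section SL3

open CfsgLib.Involution.PSL3Four

variable {F : Type*} [Field F] [Fintype F] (hF : Fintype.card F = 4)

local notation "M3" => Matrix (Fin 3) (Fin 3) F
local notation "P3" => Matrix.ProjectiveSpecialLinearGroup (Fin 3) F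

include hF in
theorem exists_omega : ∃ w : F, w ≠ 0 ∧ w ≠ 1 ∧ w * w * w = 1 ∧ 1 + w + w * w = 0 := by
  classical
  obtain ⟨w, hw⟩ : ∃ w : F, w ∉ ({0, 1} : Finset F) := by
    by_contra h
    push Not at h
    have := (Finset.card_le_card (fun x _ => h x : (Finset.univ : Finset F) ⊆ {0, 1})).trans
      Finset.card_le_two
    rw [Finset.card_univ, hF] at this
    omega
  simp only [Finset.mem_insert, Finset.mem_singleton, not_or] at hw
  have h3 : w * w * w = 1 := by rw [← cube hF hw.1]; ring
  refine ⟨w, hw.1, hw.2, h3, ?_⟩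
  have : (w - 1) * (1 + w + w * w) = 0 := by linear_combination h3
  exact (mul_eq_zero.mp this).resolve_left (sub_ne_zero.mpr hw.2)

include hF in
theorem psl3_four_oneClass : OneClass P3 := fun _ _ hx hy =>
  (isConj_of_orderOf_two hF hx).symm.trans (isConj_of_orderOf_two hF hy)

/-- The diagonal element of order three. -/
def diagThree (w : F) (hw : w * w * w = 1) : SL(3, F) :=
  ⟨!![1, 0, 0; 0, w, 0; 0, 0, w * w], by simp [Matrix.det_fin_three, ← mul_assoc, hw]⟩

/-- The cyclic permutation. -/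
def permThree (F : Type*) [Field F] : SL(3, F) :=
  ⟨!![0, 0, 1; 1, 0, 0; 0, 1, 0], by simp [Matrix.det_fin_three]⟩

theorem coe_diagThree (w : F) (hw : w * w * w = 1) :
    ((diagThree w hw : SL(3, F)) : M3) = !![1, 0, 0; 0, w, 0; 0, 0, w * w] := rfl

theorem coe_permThree : ((permThree F : SL(3, F)) : M3) = !![0, 0, 1; 1, 0, 0; 0, 1, 0] := rfl

include hF in
theorem isConj_diag {w : F} (hw : w * w * w = 1) (hw1 : w ≠ 1) (hsum : 1 + w + w * w = 0)
    {g : SL(3, F)} (hg : (g : M3) * ((g : M3) * (g : M3)) = 1) (hns : ∀ b : F, (g : M3) ≠ b • 1) :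
    IsConj (diagThree w hw) g := by
  have hw0 : w ≠ 0 := fun e => by rw [e] at hw; simp at hw
  have h2 := two_eq_zero hF
  set k := Matrix.toLin' (g : M3) with hk
  have hk3 : ∀ x, k (k (k x)) = x := fun x => by
    rw [hk, Matrix.toLin'_apply, Matrix.toLin'_apply, Matrix.toLin'_apply, Matrix.mulVec_mulVec,
      Matrix.mulVec_mulVec, Matrix.mul_assoc, hg, Matrix.one_mulVec]
  have hev : ∀ b : F, b ≠ 0 → ∃ x : Fin 3 → F, x ≠ 0 ∧ k x = b • x := by
    intro b hb
    by_contra hno
    push Not at hno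
    have hb3 : b * b * b = 1 := by rw [← cube hF hb]; ring
    have hq : ∀ x, k (k x) + b • k x + (b * b) • x = 0 := fun x => by
      by_contra hne
      refine hno _ hne ?_
      rw [map_add, map_add, map_smul, map_smul, hk3, smul_add, smul_add, smul_smul, smul_smul,
        ← mul_assoc, hb3, one_smul]
      abel
    set f₁ := k - (b * w) • (1 : Module.End F (Fin 3 → F)) with hf₁
    set f₂ := k - (b * (w * w)) • (1 : Module.End F (Fin 3 → F)) with hf₂
    have hle : LinearMap.range f₂ ≤ LinearMap.ker f₁ := by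
      rintro _ ⟨x, rfl⟩
      simp only [LinearMap.mem_ker, hf₁, hf₂, LinearMap.sub_apply, LinearMap.smul_apply,
        Module.End.one_apply, map_sub, map_smul, smul_sub, smul_smul]
      have h := hq x
      have e1 : b * (w * w) + b * w = b := by linear_combination b * hsum - b * h2
      have e2 : b * (w * w) * (b * w) = b * b := by linear_combination b * b * hw
      rw [e2]
      have e1' : (b * (w * w)) • k x + (b * w) • k x = b • k x := by rw [← add_smul, e1]
      have h2' : b • k x + b • k x = 0 := by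
        rw [← two_smul F, h2, zero_smul]
      linear_combination (norm := abel) h - e1' - h2'
    have h1 := f₂.finrank_range_add_finrank_ker
    have h3 := Submodule.finrank_mono hle
    rw [Module.finrank_fin_fun] at h1
    rcases le_or_gt 2 (Module.finrank F (LinearMap.ker f₂)) with h | h
    · exact hns _ (eq_scalar_of_rank hF (mul_ne_zero hb (mul_ne_zero hw0 hw0)) hg g.2 h)
    · exact hns _ (eq_scalar_of_rank hF (mul_ne_zero hb hw0) hg g.2 (by
        show 2 ≤ Module.finrank F (LinearMap.ker f₁)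
        omega))
  obtain ⟨x, hx0, hx⟩ := hev 1 one_ne_zero
  obtain ⟨y, hy0, hy⟩ := hev w hw0
  obtain ⟨z, hz0, hz⟩ := hev (w * w) (mul_ne_zero hw0 hw0)
  let M : F → M3 := fun s => !![s * x 0, y 0, z 0; s * x 1, y 1, z 1; s * x 2, y 2, z 2]
  have hM : (M 1).det ≠ 0 := by
    intro h0
    obtain ⟨c, hc, hcM⟩ := Matrix.exists_mulVec_eq_zero_iff.mpr h0
    have hsum0 : c 0 • x + c 1 • y + c 2 • z = 0 := by
      funext i
      have := congrFun hcM i
      fin_cases i <;>
        simp [M, Matrix.mulVec, dotProduct, Fin.sum_univ_three] at this ⊢ <;> linear_combination this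
    have hsum1 := congrArg k hsum0
    simp only [map_add, map_smul, map_zero, hx, hy, hz, one_smul] at hsum1
    have hsum2 := congrArg k hsum1
    simp only [map_add, map_smul, map_zero, hx, hy, hz, one_smul] at hsum2
    have e : ∀ i, c 0 * x i = 0 ∧ c 1 * y i = 0 ∧ c 2 * z i = 0 := fun i => by
      have a0 := congrFun hsum0 i
      have a1 := congrFun hsum1 i
      have a2 := congrFun hsum2 i
      simp only [Pi.add_apply, Pi.smul_apply, Pi.zero_apply, smul_eq_mul] at a0 a1 a2
      refine ⟨?_, ?_, ?_⟩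
      · linear_combination a0 + a1 + a2 - (c 0 * x i) * h2 - (c 1 * y i + c 2 * z i) * hsum
          - (c 2 * z i * w) * hw
      · linear_combination a0 + (w * w) * a1 + w * a2 - (c 0 * x i + c 2 * z i) * hsum
          - (c 1 * y i) * h2 - (c 1 * y i + c 1 * y i + c 2 * z i * w + c 2 * z i * w * w) * hw
      · linear_combination a0 + w * a1 + (w * w) * a2 - (c 0 * x i + c 1 * y i) * hsum
          - (c 2 * z i) * h2 - (c 2 * z i + c 2 * z i + c 2 * z i * w * w * w + c 1 * y i * w) * hw
    refine hc (funext fun i => ?_)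
    fin_cases i
    · by_contra h
      exact hx0 (funext fun j => (mul_eq_zero.1 (e j).1).resolve_left h)
    · by_contra h
      exact hy0 (funext fun j => (mul_eq_zero.1 (e j).2.1).resolve_left h)
    · by_contra h
      exact hz0 (funext fun j => (mul_eq_zero.1 (e j).2.2).resolve_left h)
  have hMs : ∀ s, (M s).det = s * (M 1).det := fun s => by
    simp [M, Matrix.det_fin_three]; ring
  refine conj_of_columns g _ (M (M 1).det⁻¹) (by rw [hMs, inv_mul_cancel₀ hM]) ?_
  generalize (M 1).det⁻¹ = s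
  ext i j
  have e0 := congrFun hx i
  have e1 := congrFun hy i
  have e2 := congrFun hz i
  simp [hk, Matrix.mulVec, dotProduct, Fin.sum_univ_three] at e0 e1 e2
  fin_cases i <;> fin_cases j <;>
    simp [M, diagThree, Matrix.mul_apply, Fin.sum_univ_three] at e0 e1 e2 ⊢ <;>
    first | linear_combination s * e0 | linear_combination e1 | linear_combination e2

include hF in
theorem psl3_four_rigid : Rigid P3 := by
  obtain ⟨w, -, hw1, hw, hsum⟩ := exists_omega hF
  have hne : (QuotientGroup.mk (diagThree w hw) : P3) ≠ 1 := fun h => by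
    obtain ⟨c, -, hc⟩ := exists_eq_smul hF ((QuotientGroup.eq_one_iff _).1 h)
    have e0 := congrFun (congrFun hc 0) 0
    have e1 := congrFun (congrFun hc 1) 1
    simp [diagThree] at e0 e1
    exact hw1 (e1.trans e0.symm)
  have hord : orderOf (QuotientGroup.mk (diagThree w hw) : P3) = 3 := by
    refine orderOf_eq_prime ?_ hne
    rw [← QuotientGroup.mk_pow, show diagThree w hw ^ 3 = 1 from Subtype.ext (by
      rw [Matrix.SpecialLinearGroup.coe_pow]
      ext i j
      fin_cases i <;> fin_cases j <;>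
        simp [diagThree, pow_succ, Matrix.mul_apply, Fin.sum_univ_three, hw] <;>
        linear_combination (w * w * w + 1) * hw), QuotientGroup.mk_one]
  refine ⟨_, hne, by rw [hord]; decide, fun y hy => ?_⟩
  obtain ⟨g, rfl⟩ := QuotientGroup.mk_surjective y
  have hy3 : g ^ 3 ∈ Subgroup.center (SL(3, F)) := by
    rw [← QuotientGroup.eq_one_iff, QuotientGroup.mk_pow]
    exact orderOf_dvd_iff_pow_eq_one.1 (dvd_of_eq (hy.trans hord))
  obtain ⟨c, hc, hgc⟩ := exists_eq_smul hF hy3
  have hg3 : (g : M3) * ((g : M3) * (g : M3)) = c • 1 := by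
    rw [← hgc, Matrix.SpecialLinearGroup.coe_pow, pow_three]
  have hc1 : c = 1 := cube_one_of_det hF hc hg3 g.2
  rw [hc1, one_smul] at hg3
  refine MonoidHom.map_isConj (QuotientGroup.mk' _) (isConj_diag hF hw hw1 hsum hg3 fun b hb => ?_)
  have hgc' : g ∈ Subgroup.center (SL(3, F)) := by
    rw [Matrix.SpecialLinearGroup.mem_center_iff]
    refine ⟨b, ?_, by rw [hb]; simp [Matrix.smul_one_eq_diagonal]⟩
    rw [Fintype.card_fin]
    have := g.2
    rw [hb, Matrix.det_smul, Matrix.det_one, mul_one, Fintype.card_fin] at this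
    exact this
  rw [(QuotientGroup.eq_one_iff _).2 hgc', orderOf_one] at hy
  omega

include hF in
theorem psl3_four_nine : ∃ a b : P3,
    a * b = b * a ∧ a ^ 3 = 1 ∧ b ^ 3 = 1 ∧ a ≠ 1 ∧ b ≠ 1 ∧ a * b ≠ 1 ∧ a * a * b ≠ 1 := by
  obtain ⟨w, hw0, hw1, hw, -⟩ := exists_omega hF
  have key : ∀ (g : SL(3, F)) (i j : Fin 3), i ≠ j → (g : M3) i j ≠ 0 →
      (QuotientGroup.mk g : P3) ≠ 1 := fun g i j hij hne h => by
    obtain ⟨c, -, hc⟩ := exists_eq_smul hF ((QuotientGroup.eq_one_iff _).1 h)
    refine hne ?_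
    rw [hc, Matrix.smul_apply, Matrix.one_apply_ne hij, smul_zero]
  refine ⟨QuotientGroup.mk (diagThree w hw), QuotientGroup.mk (permThree F), ?_, ?_, ?_, ?_, ?_, ?_, ?_⟩
  · have hz : smulSL w (cube hF hw0) ∈ Subgroup.center (SL(3, F)) := mem_center_smul hF hw0
    have he : diagThree w hw * permThree F = smulSL w (cube hF hw0) * (permThree F * diagThree w hw) := by
      apply Subtype.ext
      ext i j
      fin_cases i <;> fin_cases j <;>
        simp [coe_diagThree, coe_permThree, coe_smulSL, Matrix.mul_apply, Fin.sum_univ_three] <;>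
        linear_combination -hw
    rw [← QuotientGroup.mk_mul, he, QuotientGroup.mk_mul, (QuotientGroup.eq_one_iff _).2 hz, one_mul,
      QuotientGroup.mk_mul]
  · rw [← QuotientGroup.mk_pow, show diagThree w hw ^ 3 = 1 from Subtype.ext (by
      rw [Matrix.SpecialLinearGroup.coe_pow]
      ext i j
      fin_cases i <;> fin_cases j <;>
        simp [diagThree, pow_succ, Matrix.mul_apply, Fin.sum_univ_three, hw] <;>
        linear_combination (w * w * w + 1) * hw), QuotientGroup.mk_one]
  · rw [← QuotientGroup.mk_pow, show permThree F ^ 3 = 1 from Subtype.ext (by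
      rw [Matrix.SpecialLinearGroup.coe_pow]
      ext i j
      fin_cases i <;> fin_cases j <;>
        simp [permThree, pow_succ, Matrix.mul_apply, Fin.sum_univ_three]), QuotientGroup.mk_one]
  · intro h
    obtain ⟨c, -, hc⟩ := exists_eq_smul hF ((QuotientGroup.eq_one_iff _).1 h)
    have e0 := congrFun (congrFun hc 0) 0
    have e1 := congrFun (congrFun hc 1) 1
    simp [diagThree] at e0 e1
    exact hw1 (e1.trans e0.symm)
  · exact key _ 1 0 (by decide) (by simp [permThree])
  · rw [← QuotientGroup.mk_mul]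
    exact key _ 1 0 (by decide)
      (by simp [coe_diagThree, coe_permThree, Matrix.mul_apply, Fin.sum_univ_three, hw0])
  · rw [← QuotientGroup.mk_mul, ← QuotientGroup.mk_mul]
    exact key _ 1 0 (by decide)
      (by simp [coe_diagThree, coe_permThree, Matrix.mul_apply, Fin.sum_univ_three, hw0])

end SL3

section Sz

open CfsgLib.KnownB CfsgLib.KnownB.SzElem CfsgLib.KnownB.Suzuki CfsgLib.KnownB.TICount
  CfsgLib.KnownC.SuzukiProducts

variable {F : Type*} [Field F] [Fintype F] {e : ℕ}

local notation "Szq" => Cfsg.Lie.Sz F e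

theorem sz_oneClass (hp : Params F e) : OneClass Szq := by
  haveI : Fact (Nat.Prime 2) := ⟨Nat.prime_two⟩
  have he := hp.twist
  have key : ∀ x : Szq, orderOf x = 2 → IsConj x (P he 0 1) := by
    intro x hx
    obtain ⟨g, hg⟩ := conj_mem_uGroup hp (x := x) (IsPGroup.iff_card.2 ⟨1, by
      rw [Nat.card_zpowers, hx, pow_one]⟩)
    obtain ⟨b, hb⟩ := exists_central_of_sq he hg (by
      rw [conj_pow, (orderOf_dvd_iff_pow_eq_one (x := x) (n := 2)).1 (dvd_of_eq hx), mul_one,
        mul_inv_cancel])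
    have hb0 : b ≠ 0 := by
      rintro rfl
      rw [P_zero] at hb
      rw [conj_eq_one_iff.1 hb, orderOf_one] at hx
      omega
    exact (isConj_iff.2 ⟨g, hb⟩ : IsConj x (P he 0 b)).trans (isConj_U he hb0 one_ne_zero)
  exact fun x y hx hy => (key x hx).trans (key y hy).symm

theorem tr_sq (he : Twist F e) (g : Szq) : tr (g * g) = tr g ^ 2 := by
  simp only [tr, mat_mul, Matrix.trace, Matrix.diag, Matrix.mul_apply, Fin.sum_univ_four]
  linear_combination (mat g 0 1 * mat g 1 0 + mat g 0 2 * mat g 2 0 + mat g 0 3 * mat g 3 0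
    + mat g 1 2 * mat g 2 1 + mat g 1 3 * mat g 3 1 + mat g 2 3 * mat g 3 2
    - mat g 0 0 * mat g 1 1 - mat g 0 0 * mat g 2 2 - mat g 0 0 * mat g 3 3
    - mat g 1 1 * mat g 2 2 - mat g 1 1 * mat g 3 3 - mat g 2 2 * mat g 3 3) * he.two

theorem sz_rigid (hp : Params F e) (h5 : ∃ x : Szq, orderOf x = 5) : Rigid Szq := by
  haveI : Fact (Nat.Prime 2) := ⟨Nat.prime_two⟩
  have he := hp.twist
  have key : ∀ x : Szq, orderOf x = 5 → IsConj x (P he 0 1 * Low he 1) := by
    intro x hx
    obtain ⟨d, hd, hc⟩ := exists_isConj_pair hp (x := x) (fun h => by rw [h, orderOf_one] at hx; omega)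
      (fun hU => by
        have h1 := orderOf_dvd_uGroup hp hU
        rw [hx] at h1
        have h4 : ∀ k : ℕ, ¬ 5 ∣ 2 ^ k := fun k h => by
          have := (Nat.prime_dvd_prime_iff_eq Nat.prime_five Nat.prime_two).1
            (Nat.prime_five.dvd_of_dvd_pow h)
          omega
        obtain ⟨k, hk⟩ := IsPGroup.iff_card.1 (uGroup_isPGroup he)
        rw [← Nat.card_eq_fintype_card, ← card_uGroup he, hk] at h1
        exact h4 k h1)
    set y := P he 0 1 * Low he d with hy
    have hyo : orderOf y = 5 := by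
      obtain ⟨c, hc'⟩ := isConj_iff.1 hc
      rw [← hc', ← hx]
      exact (MulAut.conj c).orderOf_eq x
    have h4 : y * y * (y * y) = y⁻¹ := by
      refine eq_inv_of_mul_eq_one_left ?_
      rw [show y * y * (y * y) * y = y ^ 5 by simp only [pow_succ, pow_zero, one_mul, mul_assoc],
        ← hyo, pow_orderOf_eq_one]
    have hτ : tr y = tr y ^ 4 := by
      conv_lhs => rw [tr_eq_of_isConj (pair_real he d), ← h4, tr_sq he, tr_sq he]
      ring
    rw [hy, tr_U_Low, one_pow, one_mul] at hτ
    have hde : d ^ e ≠ 0 := pow_ne_zero _ hd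
    have h3 : (d ^ e) ^ 3 = 1 :=
      mul_left_cancel₀ hde (show d ^ e * (d ^ e) ^ 3 = d ^ e * 1 by linear_combination -hτ)
    have h1 : d ^ e = 1 := by
      set τ := d ^ e
      have hmod : τ ^ e = τ ^ (e % 3) := by
        conv_lhs => rw [← Nat.div_add_mod e 3, pow_add, pow_mul, h3, one_pow, one_mul]
      have hpp := he.pow_pow τ
      have hlt : e % 3 < 3 := Nat.mod_lt _ (by omega)
      interval_cases h : e % 3
      · rw [pow_zero] at hmod
        rw [hmod, one_pow] at hpp
        linear_combination h3 + τ * hpp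
      · rw [pow_one] at hmod
        exact (fixed he hmod).resolve_left hde
      · exact (fixed_sq he hmod).resolve_left hde
    have hd1 : d = 1 := pow_e_injective he (show d ^ e = 1 ^ e by rw [h1, one_pow])
    rw [hy, hd1] at hc
    exact hc
  obtain ⟨x, hx⟩ := h5
  exact ⟨x, fun h => by rw [h, orderOf_one] at hx; omega, by rw [hx]; decide,
    fun y hy => (key x hx).trans (key y (hy.trans hx)).symm⟩

end Sz

end CfsgLib.Recognition.CNStructure
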