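import Cfsg.Agent.Lib.Recognition.CIT.Main
import Cfsg.Agent.Lib.Recognition.CIT.FromCN
import Cfsg.Agent.Lib.Recognition.CNStructure.Models
import Cfsg.Agent.Lib.Recognition.CNSuzuki.Natural
import Cfsg.Agent.Lib.OddOrder.CNTheorem
import Cfsg.Agent.Lib.Involution.SelfCentNoncyclicMain
import Cfsg.Agent.Lib.SmallGroups.SimpleTools
import Cfsg.Agent.Lib.KnownB.SuzukiTori

/-!
# Groups with nilpotent centralisers and no nilpotent normal subgroup

Such a group, if not solvable, is simple or has `PSL(2, 9)` as a subgroup of index two: it has a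
unique minimal normal subgroup `M`, which is simple and CIT; as `M` has one class of involutions every
coset has two-power order, and as it has one class of elements of some odd order every coset has odd
order.
-/

set_option autoImplicit false
set_option linter.style.haveILetI false
set_option linter.unusedSectionVars false

namespace CfsgLib.Recognition.CNStructure

open Subgroup CfsgLib.Recognition.CIT

universe u

/-- `SL(2, q)` with `q ≤ 3` has order dividing `24`. -/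
theorem four_le_card {M : Type u} [Group M] [Finite M] [IsSimpleGroup M] (hna : ¬ IsMulCommutative M)
    {F : Type} [Field F] [Fintype F] (e : M ≃* Matrix.ProjectiveSpecialLinearGroup (Fin 2) F) :
    4 ≤ Fintype.card F := by
  classical
  by_contra hlt
  haveI : Fact (Nat.Prime 2) := ⟨Nat.prime_two⟩
  have h24 : Nat.card M ∣ 24 := by
    rw [Nat.card_congr e.toEquiv]
    refine (Subgroup.card_quotient_dvd_card _).trans ?_
    rw [CfsgLib.Classical.card_sl2']
    have h2 : 2 ≤ Fintype.card F := Fintype.one_lt_card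
    interval_cases Fintype.card F <;> norm_num
  obtain ⟨P⟩ : Nonempty (Sylow 2 M) := inferInstance
  have hodd : ¬ 2 ∣ (P : Subgroup M).index := Sylow.not_dvd_index' P Subgroup.index_ne_zero_of_finite
  have hd : (P : Subgroup M).index ∣ 24 := (Subgroup.index_dvd_card _).trans h24
  have hi : (P : Subgroup M).index ∣ 3 :=
    (Nat.Coprime.pow_right 3 (Nat.coprime_two_right.2 (Nat.not_even_iff_odd.1 fun h =>
      hodd (even_iff_two_dvd.1 h)))).dvd_of_dvd_mul_left (m := 2 ^ 3) (n := 3) hd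
  have hPne : (P : Subgroup M) ≠ ⊤ := fun h => by
    have hp : IsPGroup 2 M := P.isPGroup'.of_equiv ((MulEquiv.subgroupCongr h).trans Subgroup.topEquiv)
    haveI := hp.isNilpotent
    rcases (inferInstance : (Subgroup.center M).Normal).eq_bot_or_eq_top with hc | hc
    · exact absurd hc (Group.IsNilpotent.center_ne_bot M)
    · exact hna ⟨⟨fun a b => Subgroup.mem_center_iff.1 (hc ▸ Subgroup.mem_top b) a⟩⟩
  have hfac := CfsgLib.SmallGroups.SimpleTools.two_mul_card_dvd_factorial hna _ hPne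
  have hle : (P : Subgroup M).index ≤ 3 := Nat.le_of_dvd (by norm_num) hi
  have h6 : 2 * Nat.card M ∣ 6 := hfac.trans ((Nat.factorial_dvd_factorial hle).trans dvd_rfl)
  have h3 : Nat.card M ∣ 3 := Nat.dvd_of_mul_dvd_mul_left (k := 2) two_pos h6
  rcases (Nat.dvd_prime Nat.prime_three).1 h3 with h | h
  · haveI : Subsingleton M := (Nat.card_eq_one_iff_unique.1 h).1
    exact hna ⟨⟨fun a b => Subsingleton.elim _ _⟩⟩
  · haveI : Fact (Nat.Prime 3) := ⟨Nat.prime_three⟩
    haveI := isCyclic_of_prime_card h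
    exact hna ⟨⟨IsCyclic.commGroup.mul_comm⟩⟩

/-- The models. -/
theorem classes_of_list {M : Type u} [Group M] [Finite M] [IsSimpleGroup M] (hna : ¬ IsMulCommutative M)
    (h : CfsgLib.Recognition.PrimePowerSimple.CITList M) :
    OneClass M ∧ (Rigid M ∨ (TwoRigid M ∧ ∃ (F : Type) (_ : Field F) (_ : Fintype F),
      Fintype.card F = 9 ∧ Nonempty (M ≃* Matrix.ProjectiveSpecialLinearGroup (Fin 2) F))) := by
  rcases h with ⟨F, hF, hFt, hcond, ⟨φ⟩⟩ | ⟨F, hF, hFt, h4, ⟨φ⟩⟩ | ⟨F, hF, hFt, m, hm, hcard, ⟨φ⟩⟩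
  · have hq := four_le_card hna φ
    refine ⟨psl2_oneClass.of_iso φ, ?_⟩
    by_cases h9 : Fintype.card F = 9
    · exact Or.inr ⟨(psl2_nine_twoRigid h9).of_iso φ, F, hF, hFt, h9, ⟨φ⟩⟩
    refine Or.inl ((psl2_rigid fun h3 => ?_).of_iso φ)
    obtain ⟨p, hp⟩ := CharP.exists F
    obtain ⟨k, hpp, hk⟩ := FiniteField.card F p
    have hp3 : p = 3 :=
      (Nat.prime_dvd_prime_iff_eq hpp Nat.prime_three).1
        ((CharP.cast_eq_zero_iff F p 3).1 (by exact_mod_cast h3))
    subst hp3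
    rcases hcond with h | ⟨n, hn⟩ | ⟨hpr, -⟩
    · exact h9 h
    · have h32 : 3 ∣ 2 ^ n := hn ▸ hk ▸ dvd_pow_self 3 k.ne_zero
      have := (Nat.prime_dvd_prime_iff_eq Nat.prime_three Nat.prime_two).1
        (Nat.prime_three.dvd_of_dvd_pow h32)
      omega
    · have h1 : (3 : ℕ) ∣ Fintype.card F := hk ▸ dvd_pow_self 3 k.ne_zero
      have := (Nat.prime_dvd_prime_iff_eq Nat.prime_three hpr).1 h1
      omega
  · exact ⟨(psl3_four_oneClass h4).of_iso φ, Or.inl ((psl3_four_rigid h4).of_iso φ)⟩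
  · have hp := CfsgLib.KnownB.Suzuki.params_of_card hm hcard
    have he := hp.twist
    have h5 : orderOf (CfsgLib.KnownB.Suzuki.P he (0 : F) 1 * CfsgLib.KnownB.Suzuki.W he) = 5 := by
      haveI : Fact (Nat.Prime 5) := ⟨Nat.prime_five⟩
      refine orderOf_eq_prime (CfsgLib.Recognition.CNSuzuki.five_pow he) fun e => ?_
      have := congrFun (congrFun (congrArg CfsgLib.KnownB.Suzuki.mat e) 3) 0
      rw [CfsgLib.Recognition.CNSuzuki.mat_five he] at this
      simp [CfsgLib.KnownB.Suzuki.mat] at this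
    exact ⟨(sz_oneClass hp).of_iso φ, Or.inl ((sz_rigid hp ⟨_, h5⟩).of_iso φ)⟩

variable {G : Type u} [Group G] [Finite G]

theorem abelian_of_nilpotent_minimal {K : Subgroup G} (hK : Group.IsNilpotent K) (hK1 : K ≠ ⊥)
    {N : Subgroup G} (hKN : K ≤ N) (hnK : ∀ n ∈ N, ∀ k ∈ K, n * k * n⁻¹ ∈ K)
    (hmin : ∀ L : Subgroup G, L ≤ K → (∀ n ∈ N, ∀ l ∈ L, n * l * n⁻¹ ∈ L) → L = ⊥ ∨ L = K) :
    ∀ a ∈ K, ∀ b ∈ K, a * b = b * a := by
  haveI := hK
  haveI : Nontrivial K := (Subgroup.nontrivial_iff_ne_bot K).2 hK1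
  have hc := Group.IsNilpotent.center_ne_bot K
  have hL := hmin ((Subgroup.center K).map K.subtype) (Subgroup.map_subtype_le _) (by
    rintro n hn _ ⟨z, hz, rfl⟩
    refine ⟨⟨n * z * n⁻¹, hnK n hn z z.2⟩, Subgroup.mem_center_iff.2 fun y => Subtype.ext ?_, rfl⟩
    have hy : n⁻¹ * y * n ∈ K := by simpa using hnK n⁻¹ (inv_mem hn) y y.2
    have e : n⁻¹ * y * n * z = z * (n⁻¹ * y * n) :=
      congrArg Subtype.val (Subgroup.mem_center_iff.1 hz ⟨_, hy⟩)
    show (y : G) * (n * z * n⁻¹) = n * z * n⁻¹ * y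
    calc (y : G) * (n * z * n⁻¹) = n * (n⁻¹ * y * n * z) * n⁻¹ := by group
      _ = n * (z * (n⁻¹ * y * n)) * n⁻¹ := by rw [e]
      _ = n * z * n⁻¹ * y := by group)
  rcases hL with h | h
  · exact absurd ((Subgroup.map_eq_bot_iff_of_injective _ K.subtype_injective).1 h) hc
  · intro a ha b hb
    rw [← h] at hb
    obtain ⟨z, hz, rfl⟩ := hb
    exact congrArg Subtype.val (Subgroup.mem_center_iff.1 hz ⟨a, ha⟩)

/-- The minimal normal subgroup is simple and self-centralising. -/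
theorem exists_simple (hns : ¬ Group.IsSolvable G)
    (hF : ∀ K : Subgroup G, K.Normal → Group.IsNilpotent K → K = ⊥) (hCN : Cfsg.IsCNGroup G) :
    ∃ M : Subgroup G, M.Normal ∧ IsSimpleGroup M ∧ ¬ IsMulCommutative M ∧
      Subgroup.centralizer (M : Set G) = ⊥ := by
  haveI : Nontrivial G := by
    rcases subsingleton_or_nontrivial G with h | h
    · exact absurd (inferInstance : Group.IsSolvable G) hns
    · exact h
  obtain ⟨M, hM⟩ := exists_minimal_of_wellFoundedLT
    (fun M : Subgroup G => M.Normal ∧ M ≠ ⊥) ⟨⊤, inferInstance, top_ne_bot⟩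
  obtain ⟨hMn, hM1⟩ := hM.1
  haveI := hMn
  have hna : ¬ IsMulCommutative M := fun h => hM1 (hF M hMn (by
    let _ : CommGroup M := { (inferInstance : Group M) with mul_comm := fun a b => h.is_comm.comm a b }
    infer_instance))
  haveI : Nontrivial M := (Subgroup.nontrivial_iff_ne_bot M).2 hM1
  refine ⟨M, hMn, ⟨fun N hN => ?_⟩, hna, ?_⟩
  · by_contra hN'
    push Not at hN'
    obtain ⟨K, hK⟩ := exists_minimal_of_wellFoundedLT
      (fun K : Subgroup G => K ≤ M ∧ K ≠ ⊥ ∧ ∀ m ∈ M, ∀ k ∈ K, m * k * m⁻¹ ∈ K)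
      ⟨N.map M.subtype, Subgroup.map_subtype_le _, fun h => hN'.1
        ((Subgroup.map_eq_bot_iff_of_injective _ M.subtype_injective).1 h), by
        rintro m hm _ ⟨x, hx, rfl⟩
        exact ⟨⟨m, hm⟩ * x * ⟨m, hm⟩⁻¹, hN.conj_mem x hx _, rfl⟩⟩
    obtain ⟨hKM, hK1, hKn⟩ := hK.1
    have hKne : K ≠ M := fun h => by
      have hle : N.map M.subtype ≤ K := h ▸ Subgroup.map_subtype_le N
      have hK' : K ≤ N.map M.subtype := hK.2 ⟨Subgroup.map_subtype_le _, fun h' => hN'.1
        ((Subgroup.map_eq_bot_iff_of_injective _ M.subtype_injective).1 h'), by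
        rintro m hm _ ⟨x, hx, rfl⟩
        exact ⟨⟨m, hm⟩ * x * ⟨m, hm⟩⁻¹, hN.conj_mem x hx _, rfl⟩⟩ hle
      refine hN'.2 (eq_top_iff.2 fun x _ => ?_)
      obtain ⟨y, hy, hyx⟩ := hK' (show (x : G) ∈ K by rw [h]; exact x.2)
      rwa [← Subtype.ext hyx]
    -- some conjugate differs, so meets `K` trivially and commutes with it
    obtain ⟨g, hg⟩ : ∃ g : G, ∃ k ∈ K, g * k * g⁻¹ ∉ K := by
      by_contra h
      push Not at h
      exact hKne (le_antisymm hKM (hM.2 ⟨⟨fun k hk g => h g k hk⟩, hK1⟩ hKM))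
    let Kg : G → Subgroup G := fun g => K.map (MulAut.conj g).toMonoidHom
    have hKgn : ∀ g, ∀ m ∈ M, ∀ y ∈ Kg g, m * y * m⁻¹ ∈ Kg g := by
      rintro g m hm _ ⟨k, hk, rfl⟩
      refine ⟨g⁻¹ * m * g * k * (g⁻¹ * m * g)⁻¹,
        hKn _ (by simpa using hMn.conj_mem m hm g⁻¹) k hk, ?_⟩
      simp only [MulEquiv.coe_toMonoidHom, MulAut.conj_apply]
      group
    have hKgM : ∀ g, Kg g ≤ M := by
      rintro g _ ⟨k, hk, rfl⟩
      exact hMn.conj_mem k (hKM hk) g
    have hcomm : ∀ g, Kg g ≠ K → ∀ k ∈ K, ∀ y ∈ Kg g, k * y = y * k := by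
      intro g hg k hk y hy
      have hI : K ⊓ Kg g = ⊥ := by
        by_contra h
        have h1 : K ⊓ Kg g ≤ K := inf_le_left
        have h2 : K ≤ K ⊓ Kg g := hK.2 ⟨h1.trans hKM, h, fun m hm x hx =>
          ⟨hKn m hm x hx.1, hKgn g m hm x hx.2⟩⟩ h1
        refine hg (Subgroup.eq_of_le_of_card_ge (h2.trans inf_le_right) ?_).symm
        rw [Subgroup.card_map_of_injective (MulAut.conj g).injective]
      have h1 : k * y * k⁻¹ * y⁻¹ ∈ K ⊓ Kg g := by
        refine ⟨?_, ?_⟩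
        · rw [show k * y * k⁻¹ * y⁻¹ = k * (y * k⁻¹ * y⁻¹) by group]
          exact K.mul_mem hk (hKn y (hKgM g hy) k⁻¹ (K.inv_mem hk))
        · exact (Kg g).mul_mem (hKgn g k (hKM hk) y hy) ((Kg g).inv_mem hy)
      rw [hI, Subgroup.mem_bot] at h1
      calc k * y = (k * y * k⁻¹ * y⁻¹) * (y * k) := by group
        _ = y * k := by rw [h1, one_mul]
    obtain ⟨k₀, hk₀, hgk⟩ := hg
    have hgK : Kg g ≠ K := fun h => hgk (h ▸ ⟨k₀, hk₀, rfl⟩)
    obtain ⟨y, hy, hy1⟩ := (Subgroup.bot_or_exists_ne_one (Kg g)).resolve_left fun h => hK1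
      ((Subgroup.map_eq_bot_iff_of_injective _ (MulAut.conj g).injective).1 h)
    haveI := hCN y hy1
    have hKnil : Group.IsNilpotent K := CfsgLib.OddOrder.CN.isNilpotent_of_le
      (K := Subgroup.centralizer ({y} : Set G)) fun k hk =>
        Subgroup.mem_centralizer_singleton_iff.2 (hcomm g hgK k hk y hy)
    have hab := abelian_of_nilpotent_minimal hKnil hK1 hKM hKn fun L hL hLn => by
      by_cases h : L = ⊥
      · exact Or.inl h
      · exact Or.inr (le_antisymm hL (hK.2 ⟨hL.trans hKM, h, hLn⟩ hL))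
    -- so the conjugates of `K` generate an abelian normal subgroup
    have hall : ∀ g, ∀ k ∈ K, ∀ y ∈ Kg g, k * y = y * k := fun g k hk y hy => by
      by_cases h : Kg g = K
      · exact hab k hk y (h ▸ hy)
      · exact hcomm g h k hk y hy
    set S : Set G := {y | ∃ g, ∃ k ∈ K, g * k * g⁻¹ = y}
    set J := Subgroup.closure S
    have hS : ∀ a ∈ S, ∀ b ∈ S, a * b = b * a := by
      rintro _ ⟨g, k, hk, rfl⟩ _ ⟨h, l, hl, rfl⟩
      have := hall (g⁻¹ * h) k hk _ ⟨l, hl, rfl⟩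
      simp only [MulEquiv.coe_toMonoidHom, MulAut.conj_apply] at this
      calc g * k * g⁻¹ * (h * l * h⁻¹) = g * (k * (g⁻¹ * h * l * (g⁻¹ * h)⁻¹)) * g⁻¹ := by group
        _ = g * (g⁻¹ * h * l * (g⁻¹ * h)⁻¹ * k) * g⁻¹ := by rw [this]
        _ = _ := by group
    have hJn : J.Normal := ⟨fun a ha x => by
      have h1 : J.map (MulAut.conj x).toMonoidHom ≤ J := by
        rw [MonoidHom.map_closure]
        refine Subgroup.closure_mono ?_
        rintro _ ⟨_, ⟨g, k, hk, rfl⟩, rfl⟩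
        refine ⟨x * g, k, hk, ?_⟩
        simp only [MulEquiv.coe_toMonoidHom, MulAut.conj_apply]
        group
      exact h1 ⟨a, ha, rfl⟩⟩
    have hJc : ∀ a ∈ J, ∀ b ∈ J, a * b = b * a := by
      intro a ha b hb
      induction ha, hb using Subgroup.closure_induction₂ with
      | mem x y hx hy => exact hS x hx y hy
      | one_left x hx => rw [one_mul, mul_one]
      | one_right x hx => rw [one_mul, mul_one]
      | mul_left x y z _ _ _ h1 h2 => exact (Commute.mul_left h1 h2).eq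
      | mul_right x y z _ _ _ h1 h2 => exact (Commute.mul_right h1 h2).eq
      | inv_left x y _ _ h => exact (Commute.inv_left h).eq
      | inv_right x y _ _ h => exact (Commute.inv_right h).eq
    have hJ1 : J ≠ ⊥ := fun h => hK1 (eq_bot_iff.2 fun k hk => by
      rw [← h]
      exact Subgroup.subset_closure ⟨1, k, hk, by group⟩)
    exact hJ1 (hF J hJn (by
      let _ : CommGroup J :=
        { (inferInstance : Group J) with mul_comm := fun a b => Subtype.ext (hJc a a.2 b b.2) }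
      infer_instance))
  · obtain ⟨m, hm, hm1⟩ := (Subgroup.bot_or_exists_ne_one M).resolve_left hM1
    haveI := hCN m hm1
    exact hF _ inferInstance (CfsgLib.OddOrder.CN.isNilpotent_of_le
      (Subgroup.centralizer_le (Set.singleton_subset_iff.2 hm)))

theorem isCIT_subgroup (H : IsCIT G) (M : Subgroup G) : IsCIT M := by
  intro t ht x
  obtain ⟨k, hk⟩ := H (t : G) (by rw [Subgroup.orderOf_coe, ht]) ⟨((x : M) : G),
    Subgroup.mem_centralizer_singleton_iff.2
      (congrArg Subtype.val (Subgroup.mem_centralizer_singleton_iff.1 x.2))⟩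
  exact ⟨k, Subtype.ext (Subtype.ext
    (congrArg (fun y : Subgroup.centralizer ({(t : G)} : Set G) => (y : G)) hk))⟩

/-- Semisimple CN-groups. -/
theorem semisimple (hns : ¬ Group.IsSolvable G)
    (hF : ∀ K : Subgroup G, K.Normal → Group.IsNilpotent K → K = ⊥) (hCN : Cfsg.IsCNGroup G) :
    (IsSimpleGroup G ∧ ¬ IsMulCommutative G ∧ CfsgLib.Recognition.PrimePowerSimple.CITList G) ∨
    (∃ N : Subgroup G, N.Normal ∧ N.index = 2 ∧ ∃ (F : Type) (_ : Field F) (_ : Fintype F),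
      Fintype.card F = 9 ∧ Nonempty (N ≃* Matrix.ProjectiveSpecialLinearGroup (Fin 2) F)) := by
  classical
  haveI : Fact (Nat.Prime 2) := ⟨Nat.prime_two⟩
  obtain ⟨M, hMn, hMs, hna, hC⟩ := exists_simple hns hF hCN
  haveI := hMn
  haveI := hMs
  have h2M : 2 ∣ Nat.card M := CfsgLib.Involution.SelfCentNoncyclic.two_dvd_card hna
  have hodd : Cfsg.oddCore G = ⊥ := by
    haveI := CfsgLib.Involution.ZStar.oddCore_normal (G := G)
    have hd : Cfsg.oddCore G ⊓ M = ⊥ := by
      rcases (inferInstance : ((Cfsg.oddCore G).subgroupOf M).Normal).eq_bot_or_eq_top with h | h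
      · rwa [Subgroup.subgroupOf_eq_bot, disjoint_iff] at h
      · have hle : M ≤ Cfsg.oddCore G := Subgroup.subgroupOf_eq_top.1 h
        exact absurd (h2M.trans (Subgroup.card_dvd_of_le hle))
          (Nat.not_even_iff_odd.2 CfsgLib.Involution.ZStar.odd_card_oddCore ∘ even_iff_two_dvd.2)
    refine le_bot_iff.1 (hC ▸ fun x hx => Subgroup.mem_centralizer_iff.2 fun m hm => ?_)
    exact (Subgroup.commute_of_normal_of_disjoint _ M inferInstance inferInstance
      (disjoint_iff.2 hd) x m hx hm).symm.eq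
  have H : IsCIT G := IsCNGroup.isCIT_of_core hF hodd hCN
  have hlist := (isCIT_subgroup H M).classification hna
  obtain ⟨hone, hrig⟩ := classes_of_list hna hlist
  -- every coset has two-power order
  obtain ⟨⟨t, htM⟩, ht⟩ := exists_prime_orderOf_dvd_card' (G := M) 2 h2M
  have htwo : ∀ g : G, ∃ k, g ^ 2 ^ k ∈ M := by
    intro g
    have hc : g * t * g⁻¹ ∈ M := hMn.conj_mem t htM g
    obtain ⟨m, hm⟩ := isConj_iff.1 (hone ⟨t, htM⟩ ⟨g * t * g⁻¹, hc⟩ ht (by
      rw [← ht, ← Subgroup.orderOf_coe, ← Subgroup.orderOf_coe (⟨t, htM⟩ : M)]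
      exact (MulAut.conj g).orderOf_eq t))
    have hm' : (m : G) * t * (m : G)⁻¹ = g * t * g⁻¹ := congrArg Subtype.val hm
    obtain ⟨k, hk⟩ := H t (by rw [← ht]; exact Subgroup.orderOf_coe (⟨t, htM⟩ : M))
      ⟨(m : G)⁻¹ * g, Subgroup.mem_centralizer_singleton_iff.2 (by
        calc (m : G)⁻¹ * g * t = (m : G)⁻¹ * (g * t * g⁻¹) * g := by group
          _ = (m : G)⁻¹ * ((m : G) * t * (m : G)⁻¹) * g := by rw [hm']
          _ = t * ((m : G)⁻¹ * g) := by group)⟩
    refine ⟨k, ?_⟩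
    have hk' : ((m : G)⁻¹ * g) ^ 2 ^ k = 1 := congrArg Subtype.val hk
    have h1 := congrArg (QuotientGroup.mk' M) hk'
    rw [map_pow, map_mul, map_one, show QuotientGroup.mk' M (m : G)⁻¹ = 1 from
      (QuotientGroup.eq_one_iff _).2 (inv_mem m.2), one_mul, ← map_pow] at h1
    exact (QuotientGroup.eq_one_iff _).1 h1
  -- conjugation moving a rigid element only inside `M`
  have hmem : ∀ {x : M}, x ≠ 1 → Odd (orderOf x) → ∀ g : G,
      IsConj x ⟨g * (x : G) * g⁻¹, hMn.conj_mem _ x.2 g⟩ → g ∈ M := by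
    intro x hx1 hxo g hg
    obtain ⟨m, hm⟩ := isConj_iff.1 hg
    have hm' : (m : G) * x * (m : G)⁻¹ = g * x * g⁻¹ := congrArg Subtype.val hm
    set c := (m : G)⁻¹ * g with hc
    have hcx : c * (x : G) = x * c := by
      calc c * (x : G) = (m : G)⁻¹ * (g * x * g⁻¹) * g := by rw [hc]; group
        _ = (m : G)⁻¹ * ((m : G) * x * (m : G)⁻¹) * g := by rw [hm']
        _ = x * c := by rw [hc]; group
    have hcodd : Odd (orderOf c) := by
      by_contra h
      obtain ⟨j, hj⟩ := even_iff_two_dvd.1 (Nat.not_odd_iff_even.1 h)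
      have hs : orderOf (c ^ j) = 2 := by
        have hj0 : j ≠ 0 := fun e => (orderOf_pos c).ne' (by rw [hj, e, mul_zero])
        rw [orderOf_pow_of_dvd hj0 (hj ▸ dvd_mul_left j 2), hj,
          Nat.mul_div_cancel _ (Nat.pos_of_ne_zero hj0)]
      obtain ⟨k, hk⟩ := H _ hs ⟨(x : G), Subgroup.mem_centralizer_singleton_iff.2
        ((Commute.pow_left hcx j).eq.symm)⟩
      have hk' : (x : G) ^ 2 ^ k = 1 := congrArg Subtype.val hk
      refine hx1 (Subtype.ext (eq_one_of_odd_of_two ?_ hk'))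
      rwa [Subgroup.orderOf_coe]
    obtain ⟨k, hk⟩ := htwo g
    have hq : QuotientGroup.mk' M g = QuotientGroup.mk' M c := by
      rw [hc, map_mul, show QuotientGroup.mk' M (m : G)⁻¹ = 1 from
        (QuotientGroup.eq_one_iff _).2 (inv_mem m.2), one_mul]
    refine (QuotientGroup.eq_one_iff _).1
      (eq_one_of_odd_of_two (x := QuotientGroup.mk' M g) ?_ (k := k) ?_)
    · rw [hq]; exact hcodd.of_dvd_nat (orderOf_map_dvd _ _)
    · rw [← map_pow]; exact (QuotientGroup.eq_one_iff _).2 hk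
  have hord : ∀ (x : M) (g : G),
      orderOf (⟨g * (x : G) * g⁻¹, hMn.conj_mem _ x.2 g⟩ : M) = orderOf x := fun x g => by
    rw [← Subgroup.orderOf_coe, ← Subgroup.orderOf_coe x]
    exact (MulAut.conj g).orderOf_eq (x : G)
  by_cases hMtop : M = ⊤
  · refine Or.inl ?_
    haveI hGs : IsSimpleGroup G :=
      ((MulEquiv.subgroupCongr hMtop).trans Subgroup.topEquiv).isSimpleGroup_congr.1 hMs
    have hnaG : ¬ IsMulCommutative G := fun h => hna
      ⟨⟨fun a b => Subtype.ext (h.is_comm.comm (a : G) (b : G))⟩⟩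
    exact ⟨hGs, hnaG, H.classification hnaG⟩
  refine Or.inr ?_
  rcases hrig with ⟨x, hx1, hxo, hx⟩ | ⟨⟨x, hx1, hxo, hx⟩, F, hFd, hFt, h9, hiso⟩
  · exact absurd (eq_top_iff.2 fun g _ => hmem hx1 hxo g (hx _ (hord x g))) hMtop
  refine ⟨M, hMn, ?_, F, hFd, hFt, h9, hiso⟩
  obtain ⟨a, ha⟩ : ∃ a : G, a ∉ M := by
    by_contra h
    push Not at h
    exact hMtop (eq_top_iff.2 fun g _ => h g)
  rw [Subgroup.index_eq_two_iff]
  refine ⟨a, fun b => ?_⟩
  by_cases hb : b ∈ M
  · refine Or.inr ⟨hb, fun h => ha ?_⟩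
    exact (mul_mem_cancel_left hb).1 h
  refine Or.inl ⟨?_, hb⟩
  by_contra hba
  -- `a` and `b⁻¹` move the class of `x` to the same class
  have hb' : b⁻¹ ∉ M := fun h => hb (inv_mem_iff.1 h)
  rcases hx _ _ (hord x a) (hord x b⁻¹) with h | h | h
  · exact ha (hmem hx1 hxo a h)
  · exact hb' (hmem hx1 hxo b⁻¹ h)
  · obtain ⟨m, hm⟩ := isConj_iff.1 h.symm
    have hm' : (m : G) * (b⁻¹ * x * b⁻¹⁻¹) * (m : G)⁻¹ = a * x * a⁻¹ := congrArg Subtype.val hm
    have hab : a⁻¹ * ((m : G) * b⁻¹) ∈ M := hmem hx1 hxo _ (by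
      have e : (⟨a⁻¹ * ((m : G) * b⁻¹) * x * (a⁻¹ * ((m : G) * b⁻¹))⁻¹,
          hMn.conj_mem _ x.2 _⟩ : M) = x := Subtype.ext (by
        calc a⁻¹ * ((m : G) * b⁻¹) * x * (a⁻¹ * ((m : G) * b⁻¹))⁻¹
            = a⁻¹ * ((m : G) * (b⁻¹ * x * b⁻¹⁻¹) * (m : G)⁻¹) * a := by group
          _ = x := by rw [hm']; group)
      rw [e])
    apply hba
    have h1 : (QuotientGroup.mk' M) (a⁻¹ * ((m : G) * b⁻¹)) = 1 := (QuotientGroup.eq_one_iff _).2 hab
    rw [map_mul, map_mul, map_inv, map_inv, show QuotientGroup.mk' M (m : G) = 1 from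
      (QuotientGroup.eq_one_iff _).2 m.2, one_mul, ← _root_.mul_inv_rev, inv_eq_one, ← map_mul] at h1
    exact (QuotientGroup.eq_one_iff _).1 h1

end CfsgLib.Recognition.CNStructure
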